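import Cfsg.Agent.H144.War.Boxes2

/-!
# S2464, S2452 for `PSp_2n(q)`: boxes

* `Pair B g R P Q` : `P`, `Q` totally isotropic, `P ⊕ Q = R`, `(g - 1) P ≤ Q`.
* `GP B g R` (good pair) : some `Pair` with `p ∈ P`, `q ∈ Q`, `B p q ≠ 0`, `B (g p) p = 0`, `B (g q) q = 0`.
-/

set_option autoImplicit false
open Polynomial

namespace Cfsg.Agent.H144.TC

open Cfsg.Agent.H144.War

section Defs

variable {F V : Type*} [Field F] [AddCommGroup V] [Module F V]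

/-- `P ⊕ Q = R`, totally isotropic, `(g - 1) P ≤ Q` -/
def Pair (B : LinearMap.BilinForm F V) (g : V ≃ₗ[F] V) (R P Q : Submodule F V) : Prop :=
  Orth B P P ∧ Orth B Q Q ∧ P ⊔ Q = R ∧ ∀ v ∈ P, g v - v ∈ Q

/-- good pair -/
def GP (B : LinearMap.BilinForm F V) (g : V ≃ₗ[F] V) (R : Submodule F V) : Prop :=
  ∃ P Q : Submodule F V, Pair B g R P Q ∧ ∃ p ∈ P, ∃ q ∈ Q, B p q ≠ 0 ∧ B (g p) p = 0 ∧ B (g q) q = 0

end Defs

/-- **box GP** (good pair, all characteristics).  Odd characteristic: take `Pair B g R P Q` with `dim (P ∩ Fix g)` minimal.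
Exchange: if `p₀ ∈ P`, `g p₀ = p₀` and `f ∈ Q`, `g f = f + p₀`, `B p₀ f ≠ 0`, then
`P'' = (P ∩ f^⊥) ⊕ ⟨f⟩`, `Q'' = (Q ∩ p₀^⊥) ⊕ ⟨p₀⟩` is a pair with smaller `P'' ∩ Fix g`. -/
def BoxGP : Prop := ∀ {F V : Type} [Field F] [Finite F] [AddCommGroup V] [Module F V] [FiniteDimensional F V]
  {B : LinearMap.BilinForm F V} (_ : Alt B) {g : V ≃ₗ[F] V} (_ : Iso B g) {R : Submodule F V} (_ : Nd B R) (_ : Inv g R)
  {d : ℕ} (_ : 3 ≤ d) (_ : Module.finrank F R = 2 * d) (_ : C1On B g R), GP B g R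

/-- **box Four** (`dim V = 8`, odd characteristic) -/
def BoxFour : Prop := ∀ {F V : Type} [Field F] [Finite F] [AddCommGroup V] [Module F V] [FiniteDimensional F V]
  (_ : (2 : F) ≠ 0) {B : LinearMap.BilinForm F V} (_ : Alt B) {g : V ≃ₗ[F] V} (_ : Iso B g) {R S : Submodule F V}
  (_ : Nd B R) (_ : Nd B S) (_ : Inv g R) (_ : Inv g S) (_ : Module.finrank F R = 4) (_ : Module.finrank F S = 4)
  (_ : C1On B g R) (_ : C1On B (ng g) S),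
  ∃ P Q P' Q' : Submodule F V, Pair B g R P Q ∧ Pair B (ng g) S P' Q' ∧ ∃ u ∈ P, ∃ q ∈ Q, ∃ w ∈ P', ∃ q' ∈ Q',
    B (g u) u = B (g w) w ∧ B (g q) q = B (g q') q' ∧ ((B u q ≠ 0 ∧ B w q' = 0) ∨ (B u q = 0 ∧ B w q' ≠ 0))

/-- **box MJ**.  `K = F[ξ]` of degree `r + c`, `A v = X (ξ⁻¹ * v)` is `1` on `W₁`, `-1` on `W₂`, and on the quotient by
`W₁ + W₂` (dimension `2`, spanned by `y`, `A y`) it satisfies `A² - τ A + 1 = 0`. -/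
def MJCore : Prop := ∀ {F K : Type} [Field F] [Field K] [Algebra F K] [FiniteDimensional F K] {r c : ℕ} (_ : 2 ≤ c)
  (_ : c ≤ r + 1) (_ : Module.finrank F K = r + c) {ξ : K} (_ : ξ ≠ 0) (_ : (minpoly F ξ).natDegree = r + c)
  {f : F[X]} (_ : f.Monic) (_ : f.natDegree = r + c) (_ : f.coeff 0 = (-1) ^ c * (minpoly F ξ).coeff 0) (τ : F),
  ∃ (X : K ≃ₗ[F] K) (W₁ W₂ : Submodule F K) (y : K), aeval (X : Module.End F K) f = 0 ∧ Module.finrank F W₁ = r ∧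
    Module.finrank F W₂ = c - 2 ∧ (∀ v : K, ξ * v ∈ W₁ → X v = ξ * v) ∧ (∀ v : K, ξ * v ∈ W₂ → X v = -(ξ * v)) ∧
    W₁ ⊔ W₂ ⊔ Submodule.span F {y, X (ξ⁻¹ * y)} = ⊤ ∧ X (ξ⁻¹ * X (ξ⁻¹ * y)) - τ • X (ξ⁻¹ * y) + y ∈ W₁ ⊔ W₂

end Cfsg.Agent.H144.TC
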