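import Cfsg.Agent.H144.TC.Types

/-!
# Types `ξ ⊕ 1`

`x ∈ GL(P)` isomorphic to `ξ ⊕ 1` on `M × F`, extended to `V = P ⊕ Q`.  `tt_of_corner2` : the engine; the conditions are
`n (p, p) = 0` for the fixed vector `p` of `x` and `m (q, q) = 0` for the fixed vector `q ∈ Q` of `z`.
-/

set_option autoImplicit false
open Polynomial

noncomputable section

namespace Cfsg.Agent.H144.TC

open Cfsg.Agent.H144.War

variable {F V M N : Type*} [Field F] [AddCommGroup V] [Module F V] [AddCommGroup M] [Module F M]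
  [AddCommGroup N] [Module F N]

theorem aeval_fixed {X : V ≃ₗ[F] V} {p : V} (h : X p = p) (f : F[X]) : aeval (X : Module.End F V) f p = f.eval 1 • p := by
  induction f using Polynomial.induction_on' with
  | add f g hf hg => rw [map_add, LinearMap.add_apply, hf, hg, eval_add, add_smul]
  | monomial k a =>
    have hk : ∀ k : ℕ, ((X : Module.End F V) ^ k) p = p := by
      intro k
      induction k with
      | zero => rfl
      | succ k ih => rw [pow_succ, Module.End.mul_apply]; exact (congrArg _ h).trans ih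
    simp only [aeval_monomial, Module.algebraMap_end_eq_smul_id, Module.End.mul_apply, LinearMap.smul_apply,
      LinearMap.id_apply, hk, eval_monomial, one_pow, mul_one]

section FD

variable [FiniteDimensional F V]

/-- The Sylvester equation with a fixed vector. -/
theorem sylvester2 {B : LinearMap.BilinForm F V} (hB : Alt B) (hN : Nond B) {P Q : Submodule F V} (hPQ : P ⊔ Q = ⊤)
    (hQ : Orth B Q Q) {X : V ≃ₗ[F] V} (hX : Iso B X) (hXQ : ∀ v ∈ Q, X v ∈ Q) (f : F[X]) {p : V} (hXp : X p = p)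
    (hf : f.eval 1 ≠ 0) (hfP : ∀ v ∈ P, ∃ c : F, aeval (X : Module.End F V) f v = c • p)
    (hfQ : ∀ v ∈ Q, aeval (X : Module.End F V) f v = 0 → v = 0)
    {n : Module.End F V} (hn : n ∈ Skew B Q) (hnp : B (n p) p = 0) :
    ∃ z ∈ Skew B Q, ∀ v, z (X v) = X (z v) + n (X v) := by
  have hXi := inv_mem_of_mem hXQ
  let S : Submodule F (Module.End F V) := Skew B Q ⊓
    { carrier := {z | B (z p) p = 0}
      zero_mem' := by simp
      add_mem' := by
        intro a b ha hb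
        have h1 : B (a p) p = 0 := ha
        have h2 : B (b p) p = 0 := hb
        change B ((a + b) p) p = 0
        rw [LinearMap.add_apply, map_add, LinearMap.add_apply, h1, h2, add_zero]
      smul_mem' := by
        intro c a ha
        have h1 : B (a p) p = 0 := ha
        change B ((c • a) p) p = 0
        rw [LinearMap.smul_apply, map_smul, LinearMap.smul_apply, h1, smul_zero] }
  have hS : ∀ z, z ∈ S ↔ z ∈ Skew B Q ∧ B (z p) p = 0 := fun z => Iff.rfl
  have hXsp : X.symm p = p := by rw [LinearEquiv.symm_apply_eq, hXp]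
  have key : ∀ z ∈ S, z - X.conj z ∈ S := by
    rintro z ⟨hz, hzp⟩
    have hzp : B (z p) p = 0 := hzp
    refine S.sub_mem ⟨hz, hzp⟩ ((hS _).2 ⟨⟨fun v => ?_, fun v hv => ?_, fun x y => ?_⟩, ?_⟩)
    · exact hXQ _ (hz.1 _)
    · have : z (X.symm v) = 0 := hz.2.1 _ (hXi v hv)
      rw [LinearEquiv.conj_apply_apply, this, map_zero]
    · have h1 := hz.2.2 (X.symm x) (X.symm y)
      have h2 := hX (z (X.symm x)) (X.symm y)
      have h3 := hX (X.symm x) (z (X.symm y))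
      rw [X.apply_symm_apply] at h2 h3
      rw [LinearEquiv.conj_apply_apply, LinearEquiv.conj_apply_apply, h2, h3, h1]
    · rw [LinearEquiv.conj_apply_apply, hXsp]
      have h1 := hX (z p) p
      rw [hXp] at h1
      rw [h1, hzp]
  let T : S →ₗ[F] S :=
    ((LinearMap.id - (X.conj : Module.End F V →ₗ[F] Module.End F V)) ∘ₗ S.subtype).codRestrict
      S (fun z => key z.1 z.2)
  have hT : Function.Injective T := by
    rw [← LinearMap.ker_eq_bot, LinearMap.ker_eq_bot']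
    rintro ⟨z, hz, hzp⟩ h
    have hzp : B (z p) p = 0 := hzp
    have h0 : z - X.conj z = 0 := congrArg Subtype.val h
    have hc : ∀ v, z (X v) = X (z v) := by
      intro v
      have := LinearMap.congr_fun h0 (X v)
      rw [LinearMap.sub_apply, LinearEquiv.conj_apply_apply, X.symm_apply_apply, LinearMap.zero_apply,
        sub_eq_zero] at this
      exact this
    have hcf : ∀ p : F[X], ∀ v, z (aeval (X : Module.End F V) p v) = aeval (X : Module.End F V) p (z v) := by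
      intro p v
      induction p using Polynomial.induction_on' generalizing v with
      | add p q hp hq => simp only [map_add, LinearMap.add_apply, hp, hq]
      | monomial k a =>
        have hk : ∀ k : ℕ, ∀ v, z (((X : Module.End F V) ^ k) v) = ((X : Module.End F V) ^ k) (z v) := by
          intro k
          induction k with
          | zero => intro v; simp
          | succ k ih =>
            intro v
            rw [pow_succ, Module.End.mul_apply, Module.End.mul_apply, ih]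
            congr 1
            exact hc v
        rw [aeval_monomial]
        simp only [Module.algebraMap_end_eq_smul_id, Module.End.mul_apply, LinearMap.smul_apply,
          LinearMap.id_apply, map_smul, hk]
    have hzP : ∀ v ∈ P, ∃ c : F, z v = c • z p := by
      intro v hv
      obtain ⟨c, hcv⟩ := hfP v hv
      refine ⟨(f.eval 1)⁻¹ * c, ?_⟩
      have h1 : z (v - ((f.eval 1)⁻¹ * c) • p) = 0 := by
        apply hfQ _ (hz.1 _)
        rw [← hcf, map_sub, map_smul, hcv, aeval_fixed hXp, smul_smul, mul_comm _ c, mul_assoc, inv_mul_cancel₀ hf,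
          mul_one, sub_self, map_zero]
      rw [map_sub, map_smul, sub_eq_zero] at h1
      exact h1
    have hzp0 : z p = 0 := by
      apply eq_zero_of_orth hN hPQ
      · intro w hw
        obtain ⟨c, hcw⟩ := hzP w hw
        have h1 := hz.2.2 p w
        rw [hcw, map_smul, smul_eq_mul, hB.zero hzp, mul_zero, add_zero] at h1
        exact h1
      · intro w hw
        exact hQ _ (hz.1 p) w hw
    have hz0 : z = 0 := by
      ext v
      have hv : v ∈ P ⊔ Q := by rw [hPQ]; trivial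
      obtain ⟨p, hp, q, hq, rfl⟩ := Submodule.mem_sup.1 hv
      obtain ⟨c, hc⟩ := hzP p hp
      rw [map_add, hz.2.1 q hq, add_zero, LinearMap.zero_apply, hc, hzp0, smul_zero]
    exact Subtype.ext hz0
  have hSu : Function.Surjective T := LinearMap.injective_iff_surjective.1 hT
  obtain ⟨⟨z, hz, hzp⟩, h⟩ := hSu ⟨n, hn, hnp⟩
  have h0 : z - X.conj z = n := congrArg Subtype.val h
  refine ⟨z, hz, fun v => ?_⟩
  rw [← h0, LinearMap.sub_apply, LinearEquiv.conj_apply_apply, X.symm_apply_apply]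
  abel

/-- `ξ ⊕ 1` -/
def s1 (ξ : M ≃ₗ[F] M) : (M × F) ≃ₗ[F] (M × F) := ξ.prodCongr (LinearEquiv.refl F F)

omit [FiniteDimensional F V] in
theorem s1_apply (ξ : M ≃ₗ[F] M) (v : M × F) : s1 ξ v = (ξ v.1, v.2) := rfl

omit [FiniteDimensional F V] in
theorem aeval_s1 (ξ : M ≃ₗ[F] M) (f : F[X]) (v : M × F) :
    aeval ((s1 ξ : (M × F) ≃ₗ[F] (M × F)) : Module.End F (M × F)) f v =
      (aeval (ξ : Module.End F M) f v.1, f.eval 1 • v.2) := by
  rw [s1, aeval_prodCongr]
  congr 1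
  exact aeval_fixed (X := LinearEquiv.refl F F) rfl f

omit [FiniteDimensional F V] in
theorem s1_inv (ξ : M ≃ₗ[F] M) : (s1 ξ)⁻¹ = s1 ξ⁻¹ := rfl

/-- the polynomial conditions for the extension of `x ≅ ξ ⊕ 1` to `V` -/
theorem sing_levi2 {B : LinearMap.BilinForm F V} (hB : Alt B) (hN : Nond B) {P Q : Submodule F V}
    (hQ : Orth B Q Q) (hPQ : P ⊔ Q = ⊤) {ξ : M ≃ₗ[F] M} {f f' : F[X]} (hξ : Sing ξ f f') (h1 : f.eval 1 ≠ 0)
    (h1' : f'.eval 1 ≠ 0) (φ : P ≃ₗ[F] (M × F)) {q : V} (hq : q ∈ Q) (hφq : ∀ v : P, B v q = (φ v).2)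
    {X : V ≃ₗ[F] V} (hX : Iso B X) (hXx : ∀ v : P, X v = tr φ (s1 ξ) v) (hXQ : ∀ v ∈ Q, X v ∈ Q) :
    (∀ v ∈ P, ∃ c : F, aeval (X : Module.End F V) f v = c • (φ.symm (0, 1) : V)) ∧
    (∀ v ∈ Q, aeval (X : Module.End F V) f v = 0 → v = 0) ∧
    (∀ v ∈ Q, ∃ c : F, aeval (X : Module.End F V) f' v = c • q) ∧
    (∀ v ∈ P, aeval (X : Module.End F V) f' v = 0 → v = 0) ∧
    X (φ.symm (0, 1)) = (φ.symm (0, 1) : V) ∧ X q = q := by
  have hXi : ∀ v : P, X⁻¹ v = ((tr φ (s1 ξ))⁻¹ v : P) := by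
    intro v
    have h1 := hXx ((tr φ (s1 ξ))⁻¹ v)
    rw [app_inv] at h1
    rw [← h1, inv_app]
  have htri : ∀ v : P, (tr φ (s1 ξ))⁻¹ v = φ.symm (s1 ξ⁻¹ (φ v)) := fun v => rfl
  have ae : ∀ (h : F[X]) (v : P), aeval (X : Module.End F V) h v =
      (φ.symm (aeval (ξ : Module.End F M) h (φ v).1, h.eval 1 • (φ v).2) : V) := by
    intro h v
    rw [aeval_restrict (X := (X : Module.End F V)) (x := ((tr φ (s1 ξ) : P ≃ₗ[F] P) : Module.End F P)) hXx h v,
      aeval_conj φ (s1 ξ) (tr φ (s1 ξ)) (fun v => rfl), aeval_s1]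
  have ae' : ∀ (h : F[X]) (v : P), aeval ((X⁻¹ : V ≃ₗ[F] V) : Module.End F V) h v =
      (φ.symm (aeval ((ξ⁻¹ : M ≃ₗ[F] M) : Module.End F M) h (φ v).1, h.eval 1 • (φ v).2) : V) := by
    intro h v
    rw [aeval_restrict (X := ((X⁻¹ : V ≃ₗ[F] V) : Module.End F V))
      (x := (((tr φ (s1 ξ))⁻¹ : P ≃ₗ[F] P) : Module.End F P)) hXi h v,
      aeval_conj φ (s1 ξ⁻¹) (tr φ (s1 ξ))⁻¹ htri, aeval_s1]
  have sm : ∀ c : F, φ.symm ((0 : M), c) = c • φ.symm (0, 1) := by
    intro c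
    rw [← map_smul, Prod.smul_mk, smul_zero, smul_eq_mul, mul_one]
  have hB' : ∀ w v : V, B w v = 0 → B v w = 0 := fun w v h => hB.zero h
  refine ⟨fun v hv => ?_, fun v hv h0 => ?_, fun v hv => ?_, fun v hv h0 => ?_, ?_, ?_⟩
  · refine ⟨f.eval 1 • (φ ⟨v, hv⟩).2, ?_⟩
    have h2 := ae f ⟨v, hv⟩
    simp only at h2
    rw [h2, hξ.1, sm]
    rfl
  · apply eq_zero_of_orth hN hPQ _ (hQ v hv)
    intro w hw
    -- `f (x⁻¹)` is surjective on `P`
    have hinj : Function.Injective (aeval (((tr φ (s1 ξ))⁻¹ : P ≃ₗ[F] P) : Module.End F P) f) := by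
      rw [← LinearMap.ker_eq_bot, LinearMap.ker_eq_bot']
      intro u hu
      rw [aeval_conj φ (s1 ξ⁻¹) (tr φ (s1 ξ))⁻¹ htri, aeval_s1, φ.symm.map_eq_zero_iff, Prod.mk_eq_zero] at hu
      apply φ.map_eq_zero_iff.1
      ext
      · exact hξ.2.1 _ hu.1
      · exact (smul_eq_zero.1 hu.2).resolve_left h1
    obtain ⟨w', hw'⟩ := (LinearMap.injective_iff_surjective.1 hinj) ⟨w, hw⟩
    have h3 := aeval_adj hX f (w' : V) v
    have h2 := aeval_restrict (X := ((X⁻¹ : V ≃ₗ[F] V) : Module.End F V))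
      (x := (((tr φ (s1 ξ))⁻¹ : P ≃ₗ[F] P) : Module.End F P)) hXi f w'
    rw [h0, map_zero, h2, hw'] at h3
    exact hB.zero h3.symm
  · refine ⟨f'.eval 1 * B (φ.symm (0, 1)) v, ?_⟩
    rw [← sub_eq_zero]
    apply eq_zero_of_orth hN hPQ _ (hQ _ (Q.sub_mem (aeval_mem hXQ f' v hv) (Q.smul_mem _ hq)))
    intro w hw
    apply hB.zero
    have h3 := aeval_adj hX f' w v
    have h2 := ae' f' ⟨w, hw⟩
    simp only at h2
    rw [h2, hξ.2.2.1, sm, Submodule.coe_smul, map_smul, LinearMap.smul_apply] at h3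
    have h4 := hφq ⟨w, hw⟩
    simp only at h4
    rw [map_sub, map_smul, h4, h3]
    simp only [smul_eq_mul]
    ring
  · have h2 := ae f' ⟨v, hv⟩
    simp only at h2
    rw [h2, Submodule.coe_eq_zero, φ.symm.map_eq_zero_iff, Prod.mk_eq_zero] at h0
    have h3 : φ ⟨v, hv⟩ = 0 := by
      ext
      · exact hξ.2.2.2 _ h0.1
      · exact (smul_eq_zero.1 h0.2).resolve_left h1'
    exact congrArg Subtype.val (φ.map_eq_zero_iff.1 h3)
  · rw [hXx, tr_apply, φ.apply_symm_apply, s1_apply]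
    simp
  · rw [← sub_eq_zero]
    apply eq_zero_of_orth hN hPQ _ (hQ _ (Q.sub_mem (hXQ q hq) hq))
    intro w hw
    apply hB.zero
    have h2 := hX (X⁻¹ w) q
    rw [app_inv] at h2
    have h3 := hXi ⟨w, hw⟩
    simp only at h3
    have h4 := hφq ⟨w, hw⟩
    simp only at h4
    rw [map_sub, h2, h3, hφq, htri, φ.apply_symm_apply, s1_apply, h4, sub_self]

/-- **the engine** for the types `ξ ⊕ 1` -/
theorem tt_of_corner2 {B : LinearMap.BilinForm F V} (hB : Alt B) (hN : Nond B) {P Q : Submodule F V}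
    (hP : Orth B P P) (hQ : Orth B Q Q) (hPQ : P ⊔ Q = ⊤) {ξ : M ≃ₗ[F] M} {ζ : N ≃ₗ[F] N} {f₁ f₁' f₂ f₂' : F[X]}
    (hξ : Sing ξ f₁ f₁') (hζ : Sing ζ f₂ f₂') (e1 : f₁.eval 1 ≠ 0) (e1' : f₁'.eval 1 ≠ 0) (e2 : f₂.eval 1 ≠ 0)
    (e2' : f₂'.eval 1 ≠ 0) (φ : P ≃ₗ[F] (M × F)) (ψ : P ≃ₗ[F] (N × F)) {q : V} (hq : q ∈ Q)
    (hψq : ∀ v : P, B v q = (ψ v).2) {A : P ≃ₗ[F] P} (hA : ∀ v, A v = tr φ (s1 ξ) (tr ψ (s1 ζ) v))
    {g : V ≃ₗ[F] V} (hg : Iso B g) (hc : ∀ v : P, g v - A v ∈ Q)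
    (hn0 : ∀ v : P, A v = φ.symm (0, 1) → B (g v) (φ.symm (0, 1)) = 0)
    (hm0 : ∀ q' ∈ Q, (∀ v : P, B (A v) q' = B v q) → B (g q) q' = 0) : TT B (s1 ξ) (s1 ζ) g := by
  obtain ⟨X, hX, hXx, hXQ⟩ := levi hB hN hP hQ hPQ (tr φ (s1 ξ))
  obtain ⟨Z, hZ, hZz, hZQ⟩ := levi hB hN hP hQ hPQ (tr ψ (s1 ζ))
  -- a vector of `Q` for `φ`
  obtain ⟨q₁, hq₁, hφq⟩ : ∃ q₁ ∈ Q, ∀ v : P, B v q₁ = (φ v).2 := by
    have hc := isCompl_of hN hP hQ hPQ
    obtain ⟨w, hw⟩ := exists_rep hB hN ((LinearMap.snd F M F ∘ₗ (φ : P →ₗ[F] (M × F))) ∘ₗ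
      (Submodule.projectionOnto P Q hc))
    refine ⟨w, mem_of_orth hN hQ hP (by rw [sup_comm]; exact hPQ) (fun v hv => ?_), fun v => ?_⟩
    · apply hB.zero
      rw [hw]
      change (φ (Submodule.projectionOnto P Q hc v)).2 = 0
      rw [Submodule.projectionOnto_apply_of_mem_right hc hv, map_zero]
      rfl
    · rw [hw]
      change (φ (Submodule.projectionOnto P Q hc v)).2 = _
      rw [Submodule.projectionOnto_apply_left]
  obtain ⟨a1, a2, -, -, a5, -⟩ := sing_levi2 hB hN hQ hPQ hξ e1 e1' φ hq₁ hφq hX hXx hXQ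
  obtain ⟨-, -, b3, b4, -, b6⟩ := sing_levi2 hB hN hQ hPQ hζ e2 e2' ψ hq hψq hZ hZz hZQ
  set p : V := (φ.symm (0, 1) : V) with hp
  have tX : HasType B (s1 ξ) X := ⟨hX, P, Q, hP, hQ, hPQ, hXQ, φ, hXx⟩
  have tZ : HasType B (s1 ζ) Z := ⟨hZ, P, Q, hP, hQ, hPQ, hZQ, ψ, hZz⟩
  have hXP : ∀ v ∈ P, X v ∈ P := fun v hv => by rw [hXx ⟨v, hv⟩]; exact (tr φ (s1 ξ) ⟨v, hv⟩).2
  have hZP : ∀ v ∈ P, Z v ∈ P := fun v hv => by rw [hZz ⟨v, hv⟩]; exact (tr ψ (s1 ζ) ⟨v, hv⟩).2
  have hXZP : ∀ v ∈ P, (X * Z) v ∈ P := fun v hv => hXP _ (hZP v hv)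
  have hXZA : ∀ v : P, (X * Z) v = (A v : P) := by
    intro v
    rw [LinearEquiv.mul_apply, hZz, hXx, hA]
  obtain ⟨n, m, hn, hm, hnm⟩ := c1_factor hB hN hP hQ hPQ (g := g * (X * Z)⁻¹) (hg.mul (hX.mul hZ).inv) (by
    intro v hv
    have h1 := inv_mem_of_mem hXZP v hv
    have h2 := hc ⟨_, h1⟩
    have h3 : ((A ⟨_, h1⟩ : P) : V) = v := by
      rw [← hXZA]
      exact app_inv (X * Z) v
    rw [h3] at h2
    exact h2)
  have hgn : g = uni n (skew_sq hn) * uni m (skew_sq hm) * (X * Z) := by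
    rw [← hnm]; group
  have hpP : p ∈ P := (φ.symm (0, 1)).2
  -- `n (p, p) = 0`
  have hnp : B (n p) p = 0 := by
    obtain ⟨v, hv⟩ := A.surjective (φ.symm (0, 1))
    have h1 := hn0 v hv
    have h2 : (X * Z) v = p := by rw [hXZA, hv]
    have h3 : g v = p + n p := by
      rw [hgn, LinearEquiv.mul_apply, h2, LinearEquiv.mul_apply, uni_apply, uni_apply, hm.2.1 p hpP, add_zero]
    rw [h3, map_add, LinearMap.add_apply, hB p, zero_add] at h1
    exact h1
  have hm' := skew_conj hX hXP hm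
  have e0 : uni m (skew_sq hm) * X = X * uni (X.symm.conj m) (skew_sq hm') := by
    ext v
    rw [LinearEquiv.mul_apply, LinearEquiv.mul_apply, uni_apply, uni_apply, map_add]
    congr 1
    exact (X.apply_symm_apply _).symm
  -- `m (q, q) = 0`
  have hmq : B ((X.symm.conj m) q) q = 0 := by
    have h1 := hm0 (X q) (hXQ q hq) (fun v => by
      have h4 : ((A v : P) : V) = X (Z v) := (hXZA v).symm
      rw [h4, hX]
      have h5 := hZ v q
      rw [b6] at h5
      exact h5)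
    have h2 : g q = X q + m (X q) + n (m (X q)) := by
      rw [hgn, LinearEquiv.mul_apply, LinearEquiv.mul_apply, LinearEquiv.mul_apply, b6, uni_apply, uni_apply, map_add,
        hn.2.1 _ (hXQ q hq), zero_add]
    rw [h2, map_add, map_add, LinearMap.add_apply, LinearMap.add_apply, hB, zero_add, hQ _ (hn.1 _) _ (hXQ q hq),
      add_zero] at h1
    have h3 := hX ((X.symm.conj m) q) q
    rw [← h3, ← h1]
    congr 2
    exact X.apply_symm_apply _
  obtain ⟨s, hs, hsX⟩ := sylvester2 hB hN hPQ hQ hX hXQ f₁ a5 e1 a1 a2 hn hnp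
  have k0 : uni s (skew_sq hs) * X = uni n (skew_sq hn) * X * uni s (skew_sq hs) := by
    ext v
    simp only [LinearEquiv.mul_apply, uni_apply, map_add]
    have : n (X (s v)) = 0 := hn.2.1 _ (hXQ _ (hs.1 v))
    rw [hsX, this]
    abel
  have hQP : Q ⊔ P = ⊤ := by rw [sup_comm]; exact hPQ
  obtain ⟨t, ht, htZ⟩ := sylvester2 hB hN hQP hP hZ hZP f₂' b6 e2' b3 b4 hm' hmq
  have k00 : uni t (skew_sq ht) * Z = uni (X.symm.conj m) (skew_sq hm') * Z * uni t (skew_sq ht) := by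
    ext v
    simp only [LinearEquiv.mul_apply, uni_apply, map_add]
    have : (X.symm.conj m) (Z (t v)) = 0 := hm'.2.1 _ (hZP _ (ht.1 v))
    rw [htZ, this]
    abel
  have hui : Iso B (uni s (skew_sq hs)) := skew_iso hQ hs
  have hti : Iso B (uni t (skew_sq ht)) := skew_iso hP ht
  generalize uni n (skew_sq hn) = a at *
  generalize uni m (skew_sq hm) = b at *
  generalize uni (X.symm.conj m) (skew_sq hm') = b' at *
  generalize uni s (skew_sq hs) = u at *
  generalize uni t (skew_sq ht) = w at *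
  have k1 : a * X = u * X * u⁻¹ := by rw [k0]; group
  have k2 : b' * Z = w * Z * w⁻¹ := by rw [k00]; group
  refine ⟨u * X * u⁻¹, w * Z * w⁻¹, tX.conj hui, tZ.conj hti, ?_⟩
  rw [← k1, ← k2, hgn]
  calc a * b * (X * Z) = a * (b * X) * Z := by group
    _ = a * (X * b') * Z := by rw [e0]
    _ = _ := by group

end FD

end Cfsg.Agent.H144.TC
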