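import Cfsg.Agent.H144.TC.Boxes
import Cfsg.Agent.H950.Quad

/-!
# Good pairs in dimension `8` (S2464, `PSp_8(q)`, `q` odd)

`gp_eight` : if `g` has corner `1` (`C1 B g`) and `dim V = 8`, then there is a Lagrangian pair `P, Q`, `(g - 1) P ≤ Q`,
with `p ∈ P`, `q ∈ Q`, `B p q ≠ 0`, `B (g p) p = 0`, `B (g q) q = 0`.
-/

set_option autoImplicit false

namespace Cfsg.Agent.H144.TC

open Cfsg.Agent.H144 Cfsg.Agent.H144.War

variable {F V : Type*} [Field F] [AddCommGroup V] [Module F V] [FiniteDimensional F V]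

/-- an isotropic vector in a space of dimension `≥ 3` -/
theorem iso_vec [Finite F] (β : V →ₗ[F] V →ₗ[F] F) (U : Submodule F V) (hU : 3 ≤ Module.finrank F U) :
    ∃ v ∈ U, v ≠ 0 ∧ β v v = 0 := by
  obtain ⟨v, hv, hv0⟩ := Cfsg.Agent.H950.exists_common_isotropic (K := F) (A := U) (ι := Unit)
    (fun _ => (β.compl₁₂ U.subtype U.subtype)) (by rw [Fintype.card_unit]; omega)
  exact ⟨v, v.2, fun h => hv (Subtype.ext h), hv0 ()⟩

/-- the span of the isotropic vectors has dimension `≥ dim - 2` -/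
theorem two_le_span [Finite F] (β : V →ₗ[F] V →ₗ[F] F) {P A : Submodule F V} (hAP : A ≤ P)
    (hP : Module.finrank F P = 4) (hA : ∀ v ∈ P, β v v = 0 → v ∈ A) : 2 ≤ Module.finrank F A := by
  by_contra hlt
  obtain ⟨U, hU⟩ := A.exists_isCompl
  have h1 : A ⊔ U ⊓ P = P := by
    rw [← sup_inf_assoc_of_le U hAP, hU.sup_eq_top, top_inf_eq]
  have h2 : A ⊓ (U ⊓ P) = ⊥ := by
    rw [← inf_assoc, hU.inf_eq_bot, bot_inf_eq]
  have h3 := Submodule.finrank_sup_add_finrank_inf_eq A (U ⊓ P)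
  rw [h1, h2, finrank_bot, hP] at h3
  obtain ⟨v, hv, hv0, hvv⟩ := iso_vec β (U ⊓ P) (by omega)
  apply hv0
  have h4 : v ∈ A ⊓ (U ⊓ P) := ⟨hA v hv.2 hvv, hv⟩
  rwa [h2, Submodule.mem_bot] at h4

omit [FiniteDimensional F V] in
/-- an isotropic vector is in the radical when the isotropic vectors span a proper subspace `A` -/
theorem rad_of_ne (h2 : (2 : F) ≠ 0) (β : V →ₗ[F] V →ₗ[F] F) (hs : ∀ x y, β x y = β y x) {P A : Submodule F V}
    (hA : ∀ v ∈ P, β v v = 0 → v ∈ A) (hne : ∃ p ∈ P, p ∉ A) {a : V} (ha : a ∈ P) (haa : β a a = 0) :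
    ∀ p ∈ P, β a p = 0 := by
  have key : ∀ p ∈ P, p ∉ A → β a p = 0 := by
    intro p hp hpA
    by_contra h0
    apply hpA
    have h1 : β (p - (β p p / (2 * β a p)) • a) (p - (β p p / (2 * β a p)) • a) = 0 := by
      simp only [map_sub, map_smul, LinearMap.sub_apply, LinearMap.smul_apply, smul_eq_mul, haa, hs p a]
      field_simp
      ring
    have h3 := hA _ (P.sub_mem hp (P.smul_mem _ ha)) h1
    have h4 := hA a ha haa
    have h5 := A.add_mem h3 (A.smul_mem (β p p / (2 * β a p)) h4)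
    rwa [sub_add_cancel] at h5
  obtain ⟨p₀, hp₀, hp₀A⟩ := hne
  intro p hp
  by_cases hpA : p ∈ A
  · have h1 := key (p + p₀) (P.add_mem hp hp₀) (fun h => hp₀A (by
      have := A.sub_mem h hpA
      rwa [add_sub_cancel_left] at this))
    rw [map_add, key p₀ hp₀ hp₀A, add_zero] at h1
    exact h1
  · exact key p hp hpA

/-- **Good pairs, `dim V = 8`.** -/
theorem gp_eight [Finite F] (h2 : (2 : F) ≠ 0) {B : LinearMap.BilinForm F V} (hB : Alt B) (hN : Nond B)
    {g : V ≃ₗ[F] V} (hg : Iso B g) (hV : Module.finrank F V = 8) (hC : C1 B g) : GP B g ⊤ := by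
  obtain ⟨P, Q, hP, hQ, hPQ, hgP⟩ := hC
  obtain ⟨n, m, hn, hm, hnm⟩ := c1_factor hB hN hP hQ hPQ hg hgP
  have e1 : ∀ v ∈ P, g v = v + n v := by
    intro v hv
    rw [hnm, LinearEquiv.mul_apply, uni_apply, uni_apply, hm.2.1 v hv, add_zero]
  have e2 : ∀ v ∈ Q, g v = v + m v + n (m v) := by
    intro v hv
    rw [hnm, LinearEquiv.mul_apply, uni_apply, uni_apply, map_add, hn.2.1 v hv, zero_add]
  have s1 : ∀ x y, B (n x) y = B (n y) x := by
    intro x y
    have h1 := hn.2.2 x y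
    rw [hB.neg x (n y)] at h1
    exact add_neg_eq_zero.1 h1
  have s2 : ∀ x y, B (m x) y = B (m y) x := by
    intro x y
    have h1 := hm.2.2 x y
    rw [hB.neg x (m y)] at h1
    exact add_neg_eq_zero.1 h1
  have f1 : ∀ v ∈ P, B (g v) v = B (n v) v := by
    intro v hv
    rw [e1 v hv, map_add, LinearMap.add_apply, hB v, zero_add]
  have f2 : ∀ v ∈ Q, B (g v) v = B (m v) v := by
    intro v hv
    rw [e2 v hv, map_add, map_add, LinearMap.add_apply, LinearMap.add_apply, hB v, zero_add,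
      hQ _ (hn.1 _) _ hv, add_zero]
  by_cases hex : ∃ p ∈ P, ∃ q ∈ Q, B p q ≠ 0 ∧ B (g p) p = 0 ∧ B (g q) q = 0
  · exact ⟨P, Q, ⟨hP, hQ, hPQ, hgP⟩, hex⟩
  push Not at hex
  have hPQ' : Q ⊔ P = ⊤ := by rw [sup_comm]; exact hPQ
  have hP4 : Module.finrank F P = 4 := by
    have := finrank_two hB hN hP hQ hPQ
    omega
  have hQ4 : Module.finrank F Q = 4 := by
    have := finrank_two hB hN hQ hP hPQ'
    omega
  let βP : V →ₗ[F] V →ₗ[F] F := B ∘ₗ n
  let βQ : V →ₗ[F] V →ₗ[F] F := B ∘ₗ m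
  have bP : ∀ x y, βP x y = B (n x) y := fun _ _ => rfl
  have bQ : ∀ x y, βQ x y = B (m x) y := fun _ _ => rfl
  let A : Submodule F V := Submodule.span F {v | v ∈ P ∧ βP v v = 0}
  let C : Submodule F V := Submodule.span F {v | v ∈ Q ∧ βQ v v = 0}
  have hAP : A ≤ P := Submodule.span_le.2 fun v hv => hv.1
  have hCQ : C ≤ Q := Submodule.span_le.2 fun v hv => hv.1
  have hA : ∀ v ∈ P, βP v v = 0 → v ∈ A := fun v hv h => Submodule.subset_span ⟨hv, h⟩
  have hC : ∀ v ∈ Q, βQ v v = 0 → v ∈ C := fun v hv h => Submodule.subset_span ⟨hv, h⟩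
  have hA2 := two_le_span βP hAP hP4 hA
  have hC2 := two_le_span βQ hCQ hQ4 hC
  -- `A ⊥ C`
  have hAC : Orth B A C := by
    intro a ha c hc
    induction ha using Submodule.span_induction with
    | mem a ha =>
      induction hc using Submodule.span_induction with
      | mem c hc =>
        by_contra h0
        exact hex a ha.1 c hc.1 h0 (by rw [f1 a ha.1]; exact ha.2) (by rw [f2 c hc.1]; exact hc.2)
      | zero => rw [map_zero]
      | add x y _ _ hx hy => rw [map_add, hx, hy, add_zero]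
      | smul t x _ hx => rw [map_smul, hx, smul_zero]
    | zero => rw [map_zero, LinearMap.zero_apply]
    | add x y _ _ hx hy => rw [map_add, LinearMap.add_apply, hx, hy, add_zero]
    | smul t x _ hx => rw [map_smul, LinearMap.smul_apply, hx, smul_zero]
  have hneA : ∃ p ∈ P, p ∉ A := by
    by_contra hcon
    push Not at hcon
    have h1 : C = ⊥ := by
      rw [eq_bot_iff]
      intro c hc
      exact eq_zero_of_orth hN hPQ (fun w hw => hB.zero (hAC w (hcon w hw) c hc)) (fun w hw => hQ c (hCQ hc) w hw)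
    rw [h1, finrank_bot] at hC2
    omega
  have hneC : ∃ p ∈ Q, p ∉ C := by
    by_contra hcon
    push Not at hcon
    have h1 : A = ⊥ := by
      rw [eq_bot_iff]
      intro a ha
      exact eq_zero_of_orth hN hPQ (fun w hw => hP a (hAP ha) w hw) (fun w hw => hAC a ha w (hcon w hw))
    rw [h1, finrank_bot] at hA2
    omega
  have nA : ∀ a ∈ A, n a = 0 := by
    intro a ha
    induction ha using Submodule.span_induction with
    | mem a ha =>
      have h1 := rad_of_ne h2 βP s1 hA hneA ha.1 ha.2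
      exact eq_zero_of_orth hN hPQ h1 (fun w hw => hQ _ (hn.1 a) w hw)
    | zero => rw [map_zero]
    | add x y _ _ hx hy => rw [map_add, hx, hy, add_zero]
    | smul t x _ hx => rw [map_smul, hx, smul_zero]
  have mC : ∀ c ∈ C, m c = 0 := by
    intro c hc
    induction hc using Submodule.span_induction with
    | mem c hc =>
      have h1 := rad_of_ne h2 βQ s2 hC hneC hc.1 hc.2
      exact eq_zero_of_orth hN hPQ (fun w hw => hP _ (hm.1 c) w hw) h1
    | zero => rw [map_zero]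
    | add x y _ _ hx hy => rw [map_add, hx, hy, add_zero]
    | smul t x _ hx => rw [map_smul, hx, smul_zero]
  -- a complement `C'` of `C` in `Q`
  obtain ⟨U, hU⟩ := C.exists_isCompl
  let C' : Submodule F V := U ⊓ Q
  have hC'Q : C' ≤ Q := inf_le_right
  have hCC : C ⊔ C' = Q := by
    rw [show C ⊔ C' = (C ⊔ U) ⊓ Q from (sup_inf_assoc_of_le U hCQ).symm, hU.sup_eq_top, top_inf_eq]
  have hCC0 : C ⊓ C' = ⊥ := by
    rw [show C ⊓ C' = C ⊓ U ⊓ Q from (inf_assoc C U Q).symm, hU.inf_eq_bot, bot_inf_eq]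
  have hCdim := Submodule.finrank_sup_add_finrank_inf_eq C C'
  rw [hCC, hCC0, finrank_bot, hQ4] at hCdim
  -- `A ≃ (C')^*`
  let e : A →ₗ[F] Module.Dual F C' := B.compl₁₂ A.subtype C'.subtype
  have he : ∀ (a : A) (c : C'), e a c = B a c := fun _ _ => rfl
  have hei : Function.Injective e := by
    rw [← LinearMap.ker_eq_bot, LinearMap.ker_eq_bot']
    intro a ha
    refine Subtype.ext (eq_zero_of_orth hN hPQ (fun w hw => hP a (hAP a.2) w hw) (fun w hw => ?_))
    rw [← hCC] at hw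
    obtain ⟨c, hc, c', hc', rfl⟩ := Submodule.mem_sup.1 hw
    have h1 := LinearMap.congr_fun ha ⟨c', hc'⟩
    rw [he] at h1
    rw [map_add, hAC a a.2 c hc, zero_add]
    exact h1
  have hed : Module.finrank F A = Module.finrank F (Module.Dual F C') := by
    have h1 := LinearMap.finrank_le_finrank_of_injective hei
    rw [Subspace.dual_finrank_eq] at h1 ⊢
    omega
  have hes : Function.Surjective e := (LinearMap.injective_iff_surjective_of_finrank_eq_finrank hed).1 hei
  -- `A' = C'^⊥ ∩ P`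
  let A' : Submodule F V := P ⊓
    { carrier := {v | ∀ c ∈ C', B v c = 0}
      zero_mem' := fun c _ => by rw [map_zero, LinearMap.zero_apply]
      add_mem' := fun {a b} ha hb c hc => by rw [map_add, LinearMap.add_apply, ha c hc, hb c hc, add_zero]
      smul_mem' := fun t a ha c hc => by rw [map_smul, LinearMap.smul_apply, ha c hc, smul_zero] }
  have hA'P : A' ≤ P := inf_le_left
  have hA'C : ∀ a ∈ A', ∀ c ∈ C', B a c = 0 := fun a ha => ha.2
  have hAA : ∀ p ∈ P, ∃ a ∈ A, ∃ a' ∈ A', a + a' = p := by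
    intro p hp
    obtain ⟨a, ha⟩ := hes ((B p).comp C'.subtype)
    refine ⟨a, a.2, p - a, ⟨P.sub_mem hp (hAP a.2), fun c hc => ?_⟩, by abel⟩
    have h1 := LinearMap.congr_fun ha ⟨c, hc⟩
    rw [he] at h1
    rw [map_sub, LinearMap.sub_apply, sub_eq_zero]
    exact h1.symm
  let P' : Submodule F V := A' ⊔ C'
  let K : Submodule F V := A ⊔ C
  have hP' : Orth B P' P' := by
    intro x hx y hy
    obtain ⟨a, ha, c, hc, rfl⟩ := Submodule.mem_sup.1 hx
    obtain ⟨a', ha', c', hc', rfl⟩ := Submodule.mem_sup.1 hy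
    rw [map_add, map_add, LinearMap.add_apply, LinearMap.add_apply, hP a (hA'P ha) a' (hA'P ha'), hA'C a ha c' hc',
      hB.zero (hA'C a' ha' c hc), hQ c (hC'Q hc) c' (hC'Q hc')]
    simp
  have hK : Orth B K K := by
    intro x hx y hy
    obtain ⟨a, ha, c, hc, rfl⟩ := Submodule.mem_sup.1 hx
    obtain ⟨a', ha', c', hc', rfl⟩ := Submodule.mem_sup.1 hy
    rw [map_add, map_add, LinearMap.add_apply, LinearMap.add_apply, hP a (hAP ha) a' (hAP ha'), hAC a ha c' hc',
      hB.zero (hAC a' ha' c hc), hQ c (hCQ hc) c' (hCQ hc')]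
    simp
  have hPK : P' ⊔ K = ⊤ := by
    rw [eq_top_iff, ← hPQ]
    refine sup_le (fun p hp => ?_) ?_
    · obtain ⟨a, ha, a', ha', rfl⟩ := hAA p hp
      exact Submodule.add_mem _ (Submodule.mem_sup_right (Submodule.mem_sup_left ha))
        (Submodule.mem_sup_left (Submodule.mem_sup_left ha'))
    · rw [← hCC]
      exact sup_le (le_sup_right.trans le_sup_right) (le_sup_right.trans le_sup_left)
  have hfix : ∀ v ∈ K, g v = v := by
    intro v hv
    obtain ⟨a, ha, c, hc, rfl⟩ := Submodule.mem_sup.1 hv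
    rw [map_add, e1 a (hAP ha), e2 c (hCQ hc), nA a ha, mC c hc, map_zero, add_zero, add_zero, add_zero]
  have hnA' : ∀ a ∈ A', n a ∈ C := by
    intro a ha
    have h1 := hn.1 a
    rw [← hCC] at h1
    obtain ⟨c, hc, c', hc', h3⟩ := Submodule.mem_sup.1 h1
    have h4 : c' = 0 := by
      apply eq_zero_of_orth hN hPQ _ (fun w hw => hQ c' (hC'Q hc') w hw)
      intro w hw
      obtain ⟨b, hb, b', hb', rfl⟩ := hAA w hw
      have h5 : B (n a) b = 0 := by rw [s1, nA b hb, map_zero, LinearMap.zero_apply]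
      rw [← h3, map_add, LinearMap.add_apply, hB.zero (hAC b hb c hc), zero_add] at h5
      rw [map_add, h5, hB.zero (hA'C b' hb' c' hc'), add_zero]
    rw [← h3, h4, add_zero]
    exact hc
  have hmC' : ∀ c ∈ C', m c ∈ A := by
    intro c hc
    obtain ⟨a, ha, a', ha', h3⟩ := hAA (m c) (hm.1 c)
    have h4 : a' = 0 := by
      apply eq_zero_of_orth hN hPQ (fun w hw => hP a' (hA'P ha') w hw)
      intro w hw
      rw [← hCC] at hw
      obtain ⟨b, hb, b', hb', rfl⟩ := Submodule.mem_sup.1 hw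
      have h5 : B (m c) b = 0 := by rw [s2, mC b hb, map_zero, LinearMap.zero_apply]
      rw [← h3, map_add, LinearMap.add_apply, hAC a ha b hb, zero_add] at h5
      rw [map_add, h5, hA'C a' ha' b' hb', add_zero]
    rw [← h3, h4, add_zero]
    exact ha
  have hgP' : ∀ v ∈ P', g v - v ∈ K := by
    intro v hv
    obtain ⟨a, ha, c, hc, rfl⟩ := Submodule.mem_sup.1 hv
    have h1 : g (a + c) - (a + c) = n a + (m c + n (m c)) := by
      rw [map_add, e1 a (hA'P ha), e2 c (hC'Q hc)]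
      abel
    rw [h1, nA _ (hmC' c hc), add_zero]
    exact K.add_mem (Submodule.mem_sup_right (hnA' a ha)) (Submodule.mem_sup_left (hmC' c hc))
  have hP'4 := finrank_two hB hN hP' hK hPK
  obtain ⟨p, hp, hp0, hpp⟩ := iso_vec (B ∘ₗ (g : V →ₗ[F] V)) P' (by omega)
  have hpK : ∃ q ∈ K, B p q ≠ 0 := by
    by_contra hcon
    push Not at hcon
    exact hp0 (eq_zero_of_orth hN hPK (fun w hw => hP' p hp w hw) hcon)
  obtain ⟨q, hq, hpq⟩ := hpK
  exact ⟨P', K, ⟨hP', hK, hPK, hgP'⟩, p, hp, q, hq, hpq, hpp, by rw [hfix q hq]; exact hB q⟩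

end Cfsg.Agent.H144.TC
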