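import Cfsg.Agent.H144.TC.TypeG
import Cfsg.Agent.H930.SpE.Good
import Cfsg.Agent.H7.TC.SpEightP
import Cfsg.Agent.H843.TC6.Row

/-!
# S2452: the row `PSp_2m(q)`, `q` odd, `4 ∣ m`, `m ≥ 8`

* `tt_mixgp` : a good pair on `R`, a mixed corner on `S`, `V = R ⊥ S`.
* `tt_of_plane` : `g = 1` on a plane.
* `tt_or` : `g` or `-g` is a product of two isometries of type `ξ ⊕ 1`.
* `pp_psp_four`, `row3_psp_four`; `pp_psp_odd`, `row3_psp_odd` (all `m ≥ 3`).
-/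

set_option autoImplicit false
open Polynomial

noncomputable section

namespace Cfsg.Agent.H144.TC

open Cfsg Cfsg.Agent.H144 Cfsg.Agent.H144.War Cfsg.Agent.H843.TC6

section

variable {F V K : Type} [Field F] [AddCommGroup V] [Module F V] [FiniteDimensional F V] [Field K] [Algebra F K]
  [FiniteDimensional F K]

theorem swap_tt {s : ℕ} {ξ : K} (hξ : Gx F s ξ) {B : LinearMap.BilinForm F V} (hB : Alt B) (hN : Nond B)
    {g : V ≃ₗ[F] V} (h : TT B (s1 (mu F ξ hξ.1)) (s1 (mu F ξ hξ.1)⁻¹) g) :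
    TT B (s1 (mu F ξ hξ.1)) (s1 (mu F ξ hξ.1)) g := by
  obtain ⟨h0, hfr, hdeg, -, -⟩ := id hξ
  obtain ⟨X, Z, hX, hZ, e⟩ := h
  exact ⟨X, Z, hX, Cfsg.Agent.H930.TC.hasType_swap1_of hB hN
    (minpoly.irreducible (Algebra.IsIntegral.isIntegral (R := F) ξ)) (aeval_mu ξ h0) (hfr.trans hdeg.symm) hZ, e⟩

theorem tt_mixgp (h2 : (2 : F) ≠ 0) {s c a b : ℕ} {ξ : K} (hξ : Gx F s ξ) (e1 : (minpoly F ξ).eval 1 ≠ 0)
    (e1' : (minpoly F ξ⁻¹).eval 1 ≠ 0) {B : LinearMap.BilinForm F V} (hB : Alt B) (hN : Nond B) {g : V ≃ₗ[F] V}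
    (hg : Iso B g) {R S : Submodule F V} (hRS : Orth B R S) (hR : Nd B R) (htop : R ⊔ S = ⊤) (hGP : GP B g R)
    (hM : Mix B g a b S) (hb : Even b) (hRf : Module.finrank F R = 2 * c) (hc2 : 2 ≤ c) (hs : c + a + b = s + 1)
    (hV : Module.finrank F V = 2 * (s + 1)) : TT B (s1 (mu F ξ hξ.1)) (s1 (mu F ξ hξ.1)) g := by
  obtain ⟨P, Q, ⟨hP, hQ, hPQ, hc⟩, p, hp, q, hq, hpq, hgp, hgq⟩ := hGP
  obtain ⟨U, W, Q', k1, k2, k3, k4, k5, k6, k7⟩ := hM
  have hPR : P ≤ R := by rw [← hPQ]; exact le_sup_left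
  have hQR : Q ≤ R := by rw [← hPQ]; exact le_sup_right
  have hUWS : U ⊔ W ≤ S := by rw [← k3]; exact le_sup_left
  have hQS : Q' ≤ S := by rw [← k3]; exact le_sup_right
  have hPf := finrank_lag hB hR hP hQ hPQ
  apply swap_tt hξ hB hN
  refine tt_core h2 hξ e1 e1' hB hN hg (a := c + a - 1) (b := b) (by omega) hb (by omega) (U := P ⊔ U) (W := W)
    (Q := Q ⊔ Q') ?_ ?_ ?_ ?_ k5 ?_ ?_ hV (Submodule.mem_sup_left hp) (Submodule.mem_sup_left hq) hpq ?_ hgp hgq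
  · rw [sup_assoc]
    exact isotropic_sup hB hP k1 (fun x hx y hy => hRS x (hPR hx) y (hUWS hy))
  · exact isotropic_sup hB hQ k2 (fun x hx y hy => hRS x (hQR hx) y (hQS hy))
  · rw [sup_assoc P U W, sup_sup_sup_comm, hPQ, k3, htop]
  · rw [finrank_sup_of_orth hB hRS hR hPR (le_sup_left.trans hUWS), k4]
    omega
  · intro v hv
    obtain ⟨x, hx, y, hy, rfl⟩ := Submodule.mem_sup.1 hv
    have : g (x + y) - (x + y) = (g x - x) + (g y - y) := by rw [map_add]; abel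
    rw [this]
    exact Submodule.add_mem_sup (hc x hx) (k6 y hy)
  · intro v hv
    exact Submodule.mem_sup_right (k7 v hv)
  · intro w hw
    exact hB.zero (hRS q (hQR hq) w (hUWS (Submodule.mem_sup_right hw)))

theorem gp_on [Finite F] (h2 : (2 : F) ≠ 0) {B : LinearMap.BilinForm F V} (hB : Alt B) {g : V ≃ₗ[F] V} (hg : Iso B g)
    {R : Submodule F V} (hR : Nd B R) (hI : Inv g R) {d : ℕ} (hd : 4 ≤ d) (hf : Module.finrank F R = 2 * d)
    (hc : C1On B g R) : GP B g R := by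
  obtain ⟨P, Q, h1, h3, h4, h5⟩ := hc
  have hPR : P ≤ R := by rw [← h4]; exact le_sup_left
  have hQR : Q ≤ R := by rw [← h4]; exact le_sup_right
  obtain ⟨P₁, Q₁, ⟨k1, k2, k3, k4⟩, p, hp, q, hq, k5, k6, k7⟩ := Cfsg.Agent.H930.SpE.good_pair (V := R) h2
    (restrict_alt hB R) (restrict_nond hR) (gr_iso hg R hI) hd hf
    ⟨P.comap R.subtype, Q.comap R.subtype, fun x hx y hy => h1 x hx y hy, fun x hx y hy => h3 x hx y hy, by
      rw [eq_top_iff]
      intro v _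
      have hv : (v : V) ∈ P ⊔ Q := by rw [h4]; exact v.2
      obtain ⟨x, hx, q, hq, hxq⟩ := Submodule.mem_sup.1 hv
      have e1 : v = (⟨x, hPR hx⟩ : R) + ⟨q, hQR hq⟩ := Subtype.ext hxq.symm
      rw [e1]
      exact Submodule.add_mem_sup hx hq, fun v hv => h5 v hv⟩
  refine ⟨P₁.map R.subtype, Q₁.map R.subtype, ⟨?_, ?_, ?_, ?_⟩, p, ⟨p, hp, rfl⟩, q, ⟨q, hq, rfl⟩, k5, k6, k7⟩
  · rintro _ ⟨x, hx, rfl⟩ _ ⟨y, hy, rfl⟩
    exact k1 x hx y hy
  · rintro _ ⟨x, hx, rfl⟩ _ ⟨y, hy, rfl⟩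
    exact k2 x hx y hy
  · rw [← Submodule.map_sup, k3, Submodule.map_subtype_top]
  · rintro _ ⟨x, hx, rfl⟩
    exact ⟨_, k4 x hx, rfl⟩

theorem type_of_lt {s : ℕ} {ξ : K} (hξ : Gx F s ξ) {B : LinearMap.BilinForm F V} (hB : Alt B) (hN : Nond B)
    (hV : Module.finrank F V = 2 * s) {X : V ≃ₗ[F] V} (hX : LT B (minpoly F ξ) X) : HasType B (mu F ξ hξ.1) X := by
  obtain ⟨h0, hK, hdeg, -, -⟩ := id hξ
  obtain ⟨hI, P, Q, hP, hQ, hPQ, hXP, hXQ, hf⟩ := hX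
  have hPf := finrank_two hB hN hP hQ hPQ
  have h3 : aeval ((gr X P hXP : P ≃ₗ[F] P) : Module.End F P) (minpoly F ξ) = 0 := by
    ext v
    have h4 := aeval_restrict (X := (X : Module.End F V)) (x := ((gr X P hXP : P ≃ₗ[F] P) : Module.End F P))
      (fun v => rfl) (minpoly F ξ) v
    rw [← h4, hf v v.2]
    rfl
  obtain ⟨φ, hφ⟩ := exists_equiv (ξ := ξ) (hdeg.trans hK.symm) (P := P) (P' := K) (by omega) h3 (aeval_mu ξ h0)
  refine ⟨hI, P, Q, hP, hQ, hPQ, hXQ, φ, fun v => ?_⟩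
  have h5 : tr φ (mu F ξ h0) v = gr X P hXP v := by
    rw [tr_apply, LinearEquiv.symm_apply_eq]
    exact (hφ v).symm
  rw [h5]
  rfl

theorem tt_of_plane [Finite F] {s : ℕ} {ξ : K} (hξ : Gx F s ξ) {B : LinearMap.BilinForm F V} (hB : Alt B)
    {H T : Submodule F V} (hTH : Orth B T H) (hT : Nd B T) (hH : Nd B H) (htop : T ⊔ H = ⊤)
    (hH2 : Module.finrank F H = 2) (hTf : Module.finrank F T = 2 * s) {g : V ≃ₗ[F] V} (hI : Inv g T)
    (h1 : ∀ v ∈ H, g v = v) (h : CC (B.restrict T) (minpoly F ξ) (gr g T hI)) :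
    TT B (s1 (mu F ξ hξ.1)) (s1 (mu F ξ hξ.1)) g := by
  obtain ⟨X, Z, hX, hZ, e⟩ := h
  have hc : IsCompl T H := ⟨disjoint_of_orth hB hTH hT, codisjoint_iff.2 htop⟩
  exact Cfsg.Agent.H7.TC.tt_plane hB hTH hc hH hH2 hI h1
    ⟨X, Z, type_of_lt hξ (restrict_alt hB T) (restrict_nond hT) hTf hX,
      type_of_lt hξ (restrict_alt hB T) (restrict_nond hT) hTf hZ, e⟩

/-- the plane in `R` -/
theorem plane_of {B : LinearMap.BilinForm F V} (hB : Alt B) {R S : Submodule F V} (hRS : Orth B R S) (hR : Nd B R)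
    (hS : Nd B S) (htop : R ⊔ S = ⊤) {a b : ℕ} (ha : 1 ≤ a) (hRf : Module.finrank F R = 2 * a)
    (hSf : Module.finrank F S = 2 * b) :
    ∃ H R0 : Submodule F V, H ≤ R ∧ R0 ≤ R ∧ Nd B H ∧ Nd B R0 ∧ Module.finrank F H = 2 ∧
      Module.finrank F R0 = 2 * (a - 1) ∧ Orth B (R0 ⊔ S) H ∧ Nd B (R0 ⊔ S) ∧ R0 ⊔ S ⊔ H = ⊤ ∧ Orth B R0 S ∧
      Module.finrank F ↥(R0 ⊔ S) = 2 * (a - 1 + b) := by
  obtain ⟨H, hHR, hHN, hHf⟩ := exists_sub hB hR hRf 1 ha
  obtain ⟨R0, hR0, o, hsup, hR0N, hf, -⟩ := split_off hB hHR hHN hR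
  have o1 : Orth B R0 S := fun x hx y hy => hRS x (hR0 hx) y hy
  have o2 : Orth B (R0 ⊔ S) H := by
    intro x hx y hy
    obtain ⟨a, ha, b, hb, rfl⟩ := Submodule.mem_sup.1 hx
    rw [map_add, LinearMap.add_apply, hB.zero (o y hy a ha), hB.zero (hRS y (hHR hy) b hb), add_zero]
  have hR0f : Module.finrank F R0 = 2 * (a - 1) := by omega
  refine ⟨H, R0, hHR, hR0, hHN, hR0N, by omega, hR0f, o2, Nd.sup hB o1 hR0N hS, ?_, o1, ?_⟩
  · rw [sup_comm (R0 ⊔ S) H, ← sup_assoc, hsup, htop]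
  · rw [finrank_sup_of_orth hB o1 hR0N le_rfl le_rfl, hR0f, hSf]
    ring

variable [Finite F]

theorem L_two (h2 : (2 : F) ≠ 0) {s a b : ℕ} {ξ : K} (hξ : Gx F s ξ) {B : LinearMap.BilinForm F V} (hB : Alt B)
    {g : V ≃ₗ[F] V} (hg : Iso B g) {R S : Submodule F V} (hRS : Orth B R S) (hR : Nd B R)
    (hS : Nd B S) (htop : R ⊔ S = ⊤) (ha : 1 ≤ a) (hb : Odd b) (hRf : Module.finrank F R = 2 * a)
    (hSf : Module.finrank F S = 2 * b) (hIS : Inv g S) (hab : a + b = s + 1) (h1 : ∀ v ∈ R, g v = v)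
    (hcS : C1On B (ng g) S) (h3 : ¬ ∀ v ∈ S, ng g v = v) : TT B (s1 (mu F ξ hξ.1)) (s1 (mu F ξ hξ.1)) g := by
  obtain ⟨H, R0, hHR, hR0, hHN, hR0N, hH2, hR0f, o2, hTN, htopT, o1, hTf⟩ := plane_of hB hRS hR hS htop ha hRf hSf
  obtain ⟨d, rfl⟩ := hb
  have hIT : Inv g (R0 ⊔ S) := Inv.sup (fun v hv => by rw [h1 v (hR0 hv)]; exact hv) hIS
  have m1 : Mix B g (a - 1) 0 R0 := mix_of_c1On hB hR0N hR0f (exists_lag hB hR0N hg (fun v hv => h1 v (hR0 hv)))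
  have m3 := (H140.War.reflection h2 hB (ng_iso hg) hS (inv_ng hIS) hSf hcS h3).ng
  rw [ng_ng] at m3
  have m4 := mix_restrict hIT (Mix.sup hB o1 hR0N m1 m3)
  refine tt_of_plane hξ hB o2 hTN hHN htopT hH2 (by rw [hTf]; omega) hIT (fun v hv => h1 v (hHR hv)) ?_
  exact cc_mix h2 hξ (n := s) (Or.inl rfl) (restrict_alt hB _) (restrict_nond hTN) (by omega)
    (by rw [zero_add]; exact even_two_mul d) (by omega) (by rw [hTf]; omega) (gr_iso hg _ hIT) m4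

theorem L_three (h2 : (2 : F) ≠ 0) {s a b : ℕ} {ξ : K} (hξ : Gx F s ξ) {B : LinearMap.BilinForm F V} (hB : Alt B)
    {g : V ≃ₗ[F] V} (hg : Iso B g) {R S : Submodule F V} (hRS : Orth B R S) (hR : Nd B R)
    (hS : Nd B S) (htop : R ⊔ S = ⊤) (hb : Odd b) (hba : b + 2 ≤ a) (hRf : Module.finrank F R = 2 * a)
    (hSf : Module.finrank F S = 2 * b) (hab : a + b = s + 1) (h1 : ∀ v ∈ R, g v = v)
    (h3 : ∀ v ∈ S, g v = -v) : TT B (s1 (mu F ξ hξ.1)) (s1 (mu F ξ hξ.1)) g := by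
  obtain ⟨H, R0, hHR, hR0, hHN, hR0N, hH2, hR0f, o2, hTN, htopT, o1, hTf⟩ :=
    plane_of hB hRS hR hS htop (by omega) hRf hSf
  obtain ⟨d, rfl⟩ := hb
  have hIS : Inv g S := fun v hv => by rw [h3 v hv]; exact S.neg_mem hv
  have hIT : Inv g (R0 ⊔ S) := Inv.sup (fun v hv => by rw [h1 v (hR0 hv)]; exact hv) hIS
  refine tt_of_plane hξ hB o2 hTN hHN htopT hH2 (by rw [hTf]; omega) hIT (fun v hv => h1 v (hHR hv)) ?_
  refine cc_j h2 hξ (r := a - 2) (d := 2 * d) (even_two_mul d) (by omega) (by omega) (restrict_alt hB _)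
    (restrict_nond hTN) (gr_iso hg _ hIT) (R' := R0.comap (R0 ⊔ S).subtype) (R₁ := S.comap (R0 ⊔ S).subtype)
    ?_ ?_ ?_ ?_ (fun x hx y hy => o1 x hx y hy) ?_ ?_ ?_
  · rw [(Submodule.comapSubtypeEquivOfLe le_sup_left).finrank_eq, hR0f]; omega
  · rw [(Submodule.comapSubtypeEquivOfLe le_sup_right).finrank_eq, hSf]
  · intro v hv h0
    exact Subtype.ext (hR0N v hv fun w hw => h0 ⟨w, Submodule.mem_sup_left hw⟩ hw)
  · intro v hv h0
    exact Subtype.ext (hS v hv fun w hw => h0 ⟨w, Submodule.mem_sup_right hw⟩ hw)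
  · rw [eq_top_iff]
    intro v _
    obtain ⟨x, hx, y, hy, hxy⟩ := Submodule.mem_sup.1 v.2
    have e1 : v = (⟨x, Submodule.mem_sup_left hx⟩ : ↥(R0 ⊔ S)) + ⟨y, Submodule.mem_sup_right hy⟩ :=
      Subtype.ext hxy.symm
    rw [e1]
    exact Submodule.add_mem_sup hx hy
  · intro v hv
    exact Subtype.ext (h1 v (hR0 hv))
  · intro v hv
    exact Subtype.ext (h3 v hv)

/-- **the isometries** -/
theorem tt_or (h2 : (2 : F) ≠ 0) {s : ℕ} {ξ : K} (hξ : Gx F s ξ) (h4 : 4 ∣ s + 1) (h7 : 7 ≤ s)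
    (e1 : (minpoly F ξ).eval 1 ≠ 0) (e1' : (minpoly F ξ⁻¹).eval 1 ≠ 0) {B : LinearMap.BilinForm F V} (hB : Alt B)
    (hN : Nond B) (hV : Module.finrank F V = 2 * (s + 1)) {g : V ≃ₗ[F] V} (hg : Iso B g) :
    TT B (s1 (mu F ξ hξ.1)) (s1 (mu F ξ hξ.1)) g ∨ TT B (s1 (mu F ξ hξ.1)) (s1 (mu F ξ hξ.1)) (ng g) := by
  have hTN : Nd B ⊤ := fun v _ h => hN v (fun w => h w trivial)
  obtain ⟨R, S, o, iR, iS, nR, nS, hsup, hcR, hcS, -⟩ := exists_split hB hg _ ⊤ (fun v _ => trivial) hTN rfl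
  obtain ⟨a, ha⟩ : ∃ a, Module.finrank F R = 2 * a := by
    obtain ⟨P, Q, k1, k2, k3, k4⟩ := hcR
    exact ⟨_, finrank_lag hB nR k1 k2 k3⟩
  obtain ⟨b, hb⟩ : ∃ b, Module.finrank F S = 2 * b := by
    obtain ⟨P, Q, k1, k2, k3, k4⟩ := hcS
    exact ⟨_, finrank_lag hB nS k1 k2 k3⟩
  have hab : a + b = s + 1 := by
    have h3 := finrank_sup_of_orth hB o nR le_rfl le_rfl
    rw [hsup, finrank_top, hV, ha, hb] at h3
    omega
  have hgn := ng_iso hg
  have o' : Orth B S R := o.symm hB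
  have hsup' : S ⊔ R = ⊤ := by rw [sup_comm]; exact hsup
  have hcR' : C1On B (ng (ng g)) R := by rw [ng_ng]; exact hcR
  have m1 : Mix B g a 0 R := mix_of_c1On hB nR ha hcR
  have m2 : Mix B (ng g) b 0 S := mix_of_c1On hB nS hb hcS
  have m1' : Mix B (ng g) 0 a R := m1.ng
  have m2' : Mix B g 0 b S := by
    have := m2.ng
    rwa [ng_ng] at this
  rcases Nat.even_or_odd b with hev | hob
  · -- even
    have hea : Even a := by
      rcases Nat.even_or_odd a with h | h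
      · exact h
      · exfalso
        obtain ⟨c, hc⟩ := h
        obtain ⟨d, hd⟩ := hev
        omega
    rcases le_total b a with h | h
    · left
      exact tt_mixgp h2 hξ e1 e1' hB hN hg o nR hsup (gp_on h2 hB hg nR iR (by omega) ha hcR) m2' hev ha (by omega)
        (by omega) hV
    · right
      exact tt_mixgp h2 hξ e1 e1' hB hN hgn o' nS hsup' (gp_on h2 hB hgn nS (inv_ng iS) (by omega) hb hcS) m1' hea hb
        (by omega) (by omega) hV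
  have hoa : Odd a := by
    rcases Nat.even_or_odd a with h | h
    · exfalso
      obtain ⟨c, hc⟩ := h
      obtain ⟨d, hd⟩ := hob
      omega
    · exact h
  have hne : a ≠ b := by
    rintro rfl
    obtain ⟨c, rfl⟩ := hoa
    omega
  by_cases hS1 : ∀ v ∈ S, ng g v = v
  · by_cases hR1 : ∀ v ∈ R, g v = v
    · have hS1' : ∀ v ∈ S, g v = -v := by
        intro v hv
        have := hS1 v hv
        rw [ng_apply] at this
        rw [← this, neg_neg, this]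
      have hR1' : ∀ v ∈ R, ng g v = -v := by
        intro v hv
        rw [ng_apply, hR1 v hv]
      obtain ⟨c, hc⟩ := id hoa
      obtain ⟨d, hd⟩ := id hob
      rcases Nat.lt_or_ge b a with h | h
      · left
        exact L_three h2 hξ hB hg o nR nS hsup hob (by omega) ha hb hab hR1 hS1'
      · right
        exact L_three h2 hξ hB hgn o' nS nR hsup' hoa (by omega) hb ha (by omega) hS1 hR1'
    · right
      exact L_two h2 hξ hB hgn o' nS nR hsup' hob.pos hoa hb ha (inv_ng iR) (by omega) hS1 hcR'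
        (by rw [ng_ng]; exact hR1)
  · obtain ⟨d, hd⟩ := id hob
    obtain ⟨c, hc⟩ := id hoa
    rcases Nat.lt_or_ge a 4 with h | h
    · by_cases hR1 : ∀ v ∈ R, g v = v
      · left
        exact L_two h2 hξ hB hg o nR nS hsup (by omega) hob ha hb iS hab hR1 hcS hS1
      · right
        subst hc
        have m3 := (H140.War.reflection h2 hB hg nR iR ha hcR hR1).ng
        exact tt_mixgp h2 hξ e1 e1' hB hN hgn o' nS hsup' (gp_on h2 hB hgn nS (inv_ng iS) (by omega) hb hcS) m3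
          (even_two_mul c) hb (by omega) (by omega) hV
    · left
      subst hd
      have m3 := (H140.War.reflection h2 hB hgn nS (inv_ng iS) hb hcS hS1).ng
      rw [ng_ng] at m3
      exact tt_mixgp h2 hξ e1 e1' hB hN hg o nR hsup (gp_on h2 hB hg nR iR h ha hcR) m3
        (even_two_mul d) ha (by omega) (by omega) hV

end

theorem eval_ne {F K : Type} [Field F] [Field K] [Algebra F K] [FiniteDimensional F K] {η : K} (h : η ≠ 1) :
    (minpoly F η).eval 1 ≠ 0 := by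
  intro h0
  have h1 := minpoly.root (Algebra.IsIntegral.isIntegral (R := F) η) (y := 1) h0
  rw [map_one] at h1
  exact h h1.symm

theorem mu_pow {F K : Type} [Field F] [Field K] [Algebra F K] {ξ : K} (h0 : ξ ≠ 0) {r : ℕ} (h : ξ ^ r = 1) :
    (mu F ξ h0) ^ r = 1 := by
  have h1 : ∀ (k : ℕ) (v : K), ((mu F ξ h0) ^ k) v = ξ ^ k * v := by
    intro k
    induction k with
    | zero => intro v; rw [pow_zero, pow_zero, one_mul]; rfl
    | succ k ih =>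
      intro v
      rw [pow_succ, LinearEquiv.mul_apply, ih, mu_apply, pow_succ, mul_assoc]
  ext v
  rw [h1, h, one_mul]
  rfl

open Cfsg.Agent.H955 Cfsg.Agent.ClassicalGeometry.SympBasic in
theorem psp_prime_four {m : ℕ} (h4 : 4 ∣ m) (h8 : 8 ≤ m) (F : Type) [Field F] [Finite F] (h2 : (2 : F) ≠ 0) :
    ∃ x : PSp m F, (orderOf x).Prime ∧ Nat.Coprime (orderOf x) 6 ∧
      ∀ g : PSp m F, g ≠ 1 → ∃ u v : PSp m F, g = (u * x * u⁻¹) * (v * x * v⁻¹) := by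
  obtain ⟨s, rfl⟩ : ∃ s, m = s + 1 := ⟨m - 1, by omega⟩
  have hso : Odd s := by
    obtain ⟨c, hc⟩ := h4
    exact ⟨2 * c - 1, by omega⟩
  obtain ⟨r, hr, hr6, K, _, _, _, ξ, hξ, hξr⟩ := H311.TC6.xi_odd F (s := s) (by omega) hso
  have hG : Gx F s ξ := hξ
  have hξ1 : ξ ≠ 1 := by
    rintro rfl
    have h1 := hG.2.2.1
    rw [minpoly.one, show (X - 1 : F[X]) = X - C 1 by simp, natDegree_X_sub_C] at h1
    omega
  have hξ1' : ξ⁻¹ ≠ 1 := fun h => hξ1 (inv_eq_one.1 h)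
  have hS := isSp_sympBilin (s + 1) F
  have hV : Module.finrank F (Fin (s + 1) ⊕ Fin (s + 1) → F) = 2 * (s + 1) := by
    rw [Module.finrank_fintype_fun_eq_card, Fintype.card_sum, Fintype.card_fin]
    ring
  obtain ⟨x, hx, hx1, h⟩ := Cfsg.Agent.H7.TC.sq_of_tt (m := s + 1) (N := r) (s1 (mu F ξ hG.1))
    (by rw [Module.finrank_prod, Module.finrank_self, hG.2.1]) (fun a ha => hξ1 (by
      have e1 := ha (0, 1)
      rw [s1_apply] at e1
      have e2 : (1 : F) = a := by simpa using congrArg Prod.snd e1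
      subst e2
      have e3 := ha (1, 0)
      rw [s1_apply, one_smul, mu_apply, mul_one] at e3
      exact congrArg Prod.fst e3)) (by
        rw [Cfsg.Agent.H7.TC.s1_pow, mu_pow hG.1 hξr]; rfl) fun g hg _ =>
    tt_or h2 hG h4 (by omega) (eval_ne hξ1) (eval_ne hξ1') hS.alt hS.nd hV hg
  have hox : orderOf x = r := by
    rcases (Nat.dvd_prime hr).1 (orderOf_dvd_of_pow_eq_one hx) with h1 | h1
    · exact absurd (orderOf_eq_one_iff.1 h1) hx1
    · exact h1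
  exact ⟨x, by rw [hox]; exact hr, by rw [hox]; exact hr6, h⟩

theorem pp_psp_four {m : ℕ} (h4 : 4 ∣ m) (h8 : 8 ≤ m) (F : Type) [Field F] [Finite F] (h2 : (2 : F) ≠ 0) :
    H494.TC.PP (PSp m F) := psp_prime_four h4 h8 F h2

theorem row3_psp_four {m : ℕ} (h4 : 4 ∣ m) (h8 : 8 ≤ m) (F : Type) [Field F] [Finite F] (h2 : (2 : F) ≠ 0) :
    H210.TC.Row3 (PSp m F) := by
  obtain ⟨x, hx, hx6, h⟩ := psp_prime_four h4 h8 F h2
  exact H210.TC.Row3.of_sq hx hx6 h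

/-- **`PSp_2m(q)`, `q` odd, `m ≥ 3`** -/
theorem pp_psp_odd {m : ℕ} (hm : 3 ≤ m) (F : Type) [Field F] [Finite F] (h2 : (2 : F) ≠ 0) :
    H494.TC.PP (PSp m F) := by
  by_cases h4 : m % 4 = 0
  · rcases Nat.lt_or_ge m 8 with h8 | h8
    · obtain rfl : m = 4 := by omega
      exact Cfsg.Agent.H7.TC.pp_psp_eight F h2
    · exact pp_psp_four (Nat.dvd_of_mod_eq_zero h4) h8 F h2
  · exact pp_psp hm h4 F h2

theorem row3_psp_odd {m : ℕ} (hm : 3 ≤ m) (F : Type) [Field F] [Finite F] (h2 : (2 : F) ≠ 0) :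
    H210.TC.Row3 (PSp m F) := by
  obtain ⟨x, hx, hx6, h⟩ := pp_psp_odd hm F h2
  exact H210.TC.Row3.of_sq hx hx6 h

end Cfsg.Agent.H144.TC
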