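import Cfsg.Agent.H144.TC.Types
import Cfsg.Agent.H126.M3.Mat

/-!
# `Sing` for an irreducible cubic (S2464, `PSp_8(q)`)
-/

set_option autoImplicit false
open Polynomial

namespace Cfsg.Agent.H144.TC

open Cfsg.Agent.H144 Cfsg.Agent.H144.War
open Cfsg.Agent.H126.M3 (cu)

variable {F : Type*} [Field F]

theorem cu_natDegree (s r : F) : (cu s r).natDegree = 3 := by
  rw [cu]
  compute_degree!

theorem cu_monic (s r : F) : (cu s r).Monic := by
  rw [cu]
  monicity!

theorem cu_eval_one (s r : F) : (cu s r).eval 1 = r - s := by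
  rw [cu]
  simp
  ring

theorem cu_coeff_two (s r : F) : (cu s r).coeff 2 = -s := by
  rw [cu, coeff_sub, coeff_add, coeff_sub, coeff_C_mul, coeff_C_mul, coeff_X_pow, coeff_X_pow, coeff_X, coeff_C]
  norm_num

/-- an irreducible cubic with constant term `-1` is not reciprocal -/
theorem ne_of_irr {s r : F} (h : Irreducible (cu s r)) : s ≠ r := by
  rintro rfl
  have h1 : (cu s s).IsRoot 1 := by
    rw [IsRoot.def, cu_eval_one, sub_self]
  have h2 := degree_eq_one_of_irreducible_of_root h h1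
  rw [degree_eq_natDegree h.ne_zero, cu_natDegree] at h2
  norm_num at h2

theorem isCoprime_cu {s r : F} (h : Irreducible (cu s r)) : IsCoprime (cu s r) (cu r s) := by
  refine (EuclideanDomain.dvd_or_coprime _ _ h).resolve_left fun hd => ne_of_irr h ?_
  have h1 : cu s r = cu r s := (eq_of_monic_of_dvd_of_natDegree_le (cu_monic s r) (cu_monic r s) hd
    (by rw [cu_natDegree, cu_natDegree])).symm
  have h2 := congrArg (fun f : F[X] => f.coeff 2) h1
  rw [cu_coeff_two, cu_coeff_two] at h2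
  exact neg_injective h2

theorem zero_of_coprime {V : Type*} [AddCommGroup V] [Module F V] {f f' : F[X]} (h : IsCoprime f f')
    {X : Module.End F V} (h0 : ∀ v, aeval X f' v = 0) {v : V} (hv : aeval X f v = 0) : v = 0 := by
  obtain ⟨a, b, hab⟩ := h
  have h1 : aeval X (a * f + b * f') v = v := by rw [hab, map_one]; rfl
  rw [← h1, map_add, map_mul, map_mul, LinearMap.add_apply, Module.End.mul_apply, Module.End.mul_apply, hv, h0,
    map_zero, map_zero, add_zero]

/-- the inverse satisfies the reciprocal cubic -/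
theorem aeval_inv_cu {V : Type*} [AddCommGroup V] [Module F V] {s r : F} {x : V ≃ₗ[F] V}
    (h : ∀ v, aeval (x : Module.End F V) (cu s r) v = 0) (v : V) :
    aeval ((x⁻¹ : V ≃ₗ[F] V) : Module.End F V) (cu r s) v = 0 := by
  have e : ∀ (y : V ≃ₗ[F] V) (a b : F) (w : V), aeval (y : Module.End F V) (cu a b) w =
      y (y (y w)) - a • y (y w) + b • y w - w := by
    intro y a b w
    rw [cu]
    simp only [map_sub, map_add, map_mul, aeval_X, aeval_C, Module.algebraMap_end_eq_smul_id, map_one,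
      LinearMap.sub_apply, LinearMap.add_apply, Module.End.mul_apply, LinearMap.smul_apply, LinearMap.id_apply,
      Module.End.one_apply, pow_succ, pow_zero, one_mul]
    rfl
  have h1 := h (x⁻¹ (x⁻¹ (x⁻¹ v)))
  rw [e] at h1
  rw [e]
  have h2 : ∀ w : V, x (x⁻¹ w) = w := app_inv x
  rw [h2, h2, h2] at h1
  have h3 : x⁻¹ (x⁻¹ (x⁻¹ v)) - r • x⁻¹ (x⁻¹ v) + s • x⁻¹ v - v =
      -(v - s • x⁻¹ v + r • x⁻¹ (x⁻¹ v) - x⁻¹ (x⁻¹ (x⁻¹ v))) := by module
  rw [h3, h1, neg_zero]

/-- **`Sing` for an irreducible cubic.** -/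
theorem sing_cu {V : Type*} [AddCommGroup V] [Module F V] {s r : F} (hirr : Irreducible (cu s r)) {x : V ≃ₗ[F] V}
    (h : ∀ v, aeval (x : Module.End F V) (cu s r) v = 0) : Sing x (cu s r) (cu r s) :=
  ⟨h, fun _ hv => zero_of_coprime (isCoprime_cu hirr) (aeval_inv_cu h) hv, aeval_inv_cu h,
    fun _ hv => zero_of_coprime (isCoprime_cu hirr).symm h hv⟩

theorem sing_xi' {s r : F} (hirr : Irreducible (cu s r)) {ξ : (Fin 3 → F) ≃ₗ[F] (Fin 3 → F)}
    (hξ : (LinearMap.toMatrix' (ξ : (Fin 3 → F) →ₗ[F] (Fin 3 → F))).charpoly = cu s r) :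
    Sing ξ (cu s r) (cu r s) := by
  refine sing_cu hirr fun v => ?_
  have h1 : (ξ : (Fin 3 → F) →ₗ[F] (Fin 3 → F)).charpoly = cu s r := by
    rw [← hξ, ← LinearMap.charpoly_toMatrix (ξ : (Fin 3 → F) →ₗ[F] (Fin 3 → F)) (Pi.basisFun F (Fin 3))]
    rfl
  have h2 := LinearMap.aeval_self_charpoly (ξ : (Fin 3 → F) →ₗ[F] (Fin 3 → F))
  rw [h1] at h2
  exact LinearMap.congr_fun h2 v

/-- **box (F), part 2** -/
theorem sing_xi {s r : F} (hirr : Irreducible (cu s r)) {ξ : (Fin 3 → F) ≃ₗ[F] (Fin 3 → F)}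
    (hξ : (LinearMap.toMatrix' (ξ : (Fin 3 → F) →ₗ[F] (Fin 3 → F))).charpoly = cu s r) :
    ∃ f f' : F[X], Sing ξ f f' ∧ f.eval 1 ≠ 0 ∧ f'.eval 1 ≠ 0 :=
  ⟨cu s r, cu r s, sing_xi' hirr hξ, by rw [cu_eval_one]; exact sub_ne_zero.2 (ne_of_irr hirr).symm,
    by rw [cu_eval_one]; exact sub_ne_zero.2 (ne_of_irr hirr)⟩

end Cfsg.Agent.H144.TC
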