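import Cfsg.Agent.H144.War.MixEng

/-!
# Two fixed classes (S4173): types of isometries

`ξ` an automorphism of a space `M` (the model).  `HasType B ξ X` : the isometry `X` preserves `P` and `Q`, `V = P ⊕ Q`
totally isotropic, and `X` on `P` is isomorphic to `ξ` on `M`.  All isometries of type `ξ` are conjugate.
* `TT B ξ ζ g` : `g = X Z`, `X` of type `ξ`, `Z` of type `ζ`.
* `FacT ξ ζ A` : `A = x z` in `GL(P)`, `x ≅ ξ`, `z ≅ ζ`.
* `tt_of_corner`.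
-/

set_option autoImplicit false
open Polynomial

noncomputable section

namespace Cfsg.Agent.H144.TC

open Cfsg.Agent.H144.War

variable {F V M N : Type*} [Field F] [AddCommGroup V] [Module F V] [AddCommGroup M] [Module F M]
  [AddCommGroup N] [Module F N]

/-- `X` is of type `ξ` -/
def HasType (B : LinearMap.BilinForm F V) (ξ : M ≃ₗ[F] M) (X : V ≃ₗ[F] V) : Prop :=
  Iso B X ∧ ∃ P Q : Submodule F V, Orth B P P ∧ Orth B Q Q ∧ P ⊔ Q = ⊤ ∧ (∀ v ∈ Q, X v ∈ Q) ∧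
    ∃ φ : P ≃ₗ[F] M, ∀ v : P, X v = (tr φ ξ v : P)

/-- `g = X Z` -/
def TT (B : LinearMap.BilinForm F V) (ξ : M ≃ₗ[F] M) (ζ : N ≃ₗ[F] N) (g : V ≃ₗ[F] V) : Prop :=
  ∃ X Z : V ≃ₗ[F] V, HasType B ξ X ∧ HasType B ζ Z ∧ g = X * Z

/-- `A = x z` -/
def FacT (ξ : M ≃ₗ[F] M) (ζ : N ≃ₗ[F] N) (A : V ≃ₗ[F] V) : Prop :=
  ∃ (φ : V ≃ₗ[F] M) (ψ : V ≃ₗ[F] N), ∀ v, A v = tr φ ξ (tr ψ ζ v)

theorem FacT.conj {M' : Type*} [AddCommGroup M'] [Module F M'] {ξ : M ≃ₗ[F] M} {ζ : N ≃ₗ[F] N} {A : M' ≃ₗ[F] M'}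
    (hA : FacT ξ ζ A) (θ : V ≃ₗ[F] M') {A' : V ≃ₗ[F] V} (h : ∀ v, θ (A' v) = A (θ v)) : FacT ξ ζ A' := by
  obtain ⟨φ, ψ, hφψ⟩ := hA
  refine ⟨θ.trans φ, θ.trans ψ, fun v => ?_⟩
  apply θ.injective
  rw [h, hφψ]
  simp only [tr_apply, LinearEquiv.trans_apply, LinearEquiv.symm_trans_apply, LinearEquiv.apply_symm_apply]

theorem HasType.conj {B : LinearMap.BilinForm F V} {ξ : M ≃ₗ[F] M} {X : V ≃ₗ[F] V} (h : HasType B ξ X)
    {u : V ≃ₗ[F] V} (hu : Iso B u) : HasType B ξ (u * X * u⁻¹) := by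
  obtain ⟨hX, P, Q, hP, hQ, hPQ, hXQ, φ, hφ⟩ := h
  refine ⟨(hu.mul hX).mul hu.inv, P.map (u : V →ₗ[F] V), Q.map (u : V →ₗ[F] V), ?_, ?_, ?_, ?_,
    (u.submoduleMap P).symm.trans φ, ?_⟩
  · rintro _ ⟨x, hx, rfl⟩ _ ⟨y, hy, rfl⟩
    exact (hu x y).trans (hP x hx y hy)
  · rintro _ ⟨x, hx, rfl⟩ _ ⟨y, hy, rfl⟩
    exact (hu x y).trans (hQ x hx y hy)
  · rw [← Submodule.map_sup, hPQ, Submodule.map_top]
    exact LinearMap.range_eq_top.2 u.surjective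
  · rintro _ ⟨y, hy, rfl⟩
    refine ⟨X y, hXQ y hy, ?_⟩
    change u (X y) = u (X (u⁻¹ (u y)))
    rw [inv_app]
  · intro v
    obtain ⟨w, rfl⟩ := (u.submoduleMap P).surjective v
    rw [tr_apply, LinearEquiv.trans_apply, LinearEquiv.symm_apply_apply, LinearEquiv.symm_trans_apply,
      LinearEquiv.symm_symm]
    change u (X (u⁻¹ (u w))) = u (φ.symm (ξ (φ w)) : P)
    rw [inv_app, hφ, tr_apply]

section FD

variable [FiniteDimensional F V]

/-- extension of `P ≃ P'` to an isometry -/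
theorem levi_two {B : LinearMap.BilinForm F V} (hB : Alt B) (hN : Nond B) {P Q P' Q' : Submodule F V}
    (hP : Orth B P P) (hQ : Orth B Q Q) (hPQ : P ⊔ Q = ⊤) (hP' : Orth B P' P') (hQ' : Orth B Q' Q')
    (hPQ' : P' ⊔ Q' = ⊤) (x : P ≃ₗ[F] P') :
    ∃ X : V ≃ₗ[F] V, Iso B X ∧ (∀ v : P, X v = x v) ∧ (∀ v ∈ Q, X v ∈ Q') := by
  have hc := isCompl_of hN hP hQ hPQ
  have hc' := isCompl_of hN hP' hQ' hPQ'
  have mk : ∀ P Q : Submodule F V, Orth B P P → Orth B Q Q → P ⊔ Q = ⊤ →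
      ∃ e : Q ≃ₗ[F] Module.Dual F P, ∀ (q : Q) (p : P), e q p = B p q := by
    intro P Q hP hQ hPQ
    let e₀ : Q →ₗ[F] Module.Dual F P := (B.compl₁₂ P.subtype Q.subtype).flip
    have he₀ : Function.Injective e₀ := by
      rw [← LinearMap.ker_eq_bot, LinearMap.ker_eq_bot']
      intro q hq
      have : (q : V) = 0 := by
        apply eq_zero_of_orth hN hPQ _ (hQ q q.2)
        intro w hw
        have := LinearMap.congr_fun hq ⟨w, hw⟩
        exact hB.zero this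
      exact Subtype.ext this
    exact ⟨LinearEquiv.ofInjectiveOfFinrankEq e₀ he₀ (by
      rw [Subspace.dual_finrank_eq]; exact (finrank_eq hB hN hP hQ hPQ).symm), fun q p => rfl⟩
  obtain ⟨e, he⟩ := mk P Q hP hQ hPQ
  obtain ⟨e', he'⟩ := mk P' Q' hP' hQ' hPQ'
  let x' : Q ≃ₗ[F] Q' := e.trans (x.symm.dualMap.trans e'.symm)
  have hx' : ∀ (p : P) (q : Q), B (x p) (x' q) = B p q := by
    intro p q
    rw [← he, ← he']
    change e' (e'.symm (x.symm.dualMap (e q))) (x p) = _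
    rw [e'.apply_symm_apply, LinearEquiv.dualMap_apply, x.symm_apply_apply]
  let E := Submodule.prodEquivOfIsCompl P Q hc
  let E' := Submodule.prodEquivOfIsCompl P' Q' hc'
  have hE : ∀ (p : P) (q : Q), E.symm (p + q) = (p, q) := by
    intro p q
    rw [E.symm_apply_eq]
    rfl
  let X : V ≃ₗ[F] V := E.symm.trans ((x.prodCongr x').trans E')
  have hX : ∀ (p : P) (q : Q), X (p + q) = x p + x' q := by
    intro p q
    change E' ((x.prodCongr x') (E.symm (p + q))) = _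
    rw [hE]
    rfl
  refine ⟨X, ?_, fun v => ?_, fun v hv => ?_⟩
  · intro v w
    obtain ⟨p, hp, q, hq, rfl⟩ := mem_sup_top hPQ v
    obtain ⟨p', hp', q', hq', rfl⟩ := mem_sup_top hPQ w
    have h1 := hX ⟨p, hp⟩ ⟨q, hq⟩
    have h2 := hX ⟨p', hp'⟩ ⟨q', hq'⟩
    simp only at h1 h2
    rw [h1, h2]
    simp only [map_add, LinearMap.add_apply]
    rw [hP' _ (x ⟨p, hp⟩).2 _ (x ⟨p', hp'⟩).2, hQ' _ (x' ⟨q, hq⟩).2 _ (x' ⟨q', hq'⟩).2,
      hP p hp p' hp', hQ q hq q' hq', hx', hB.neg (x' ⟨q, hq⟩ : V), hx', hB.neg q]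
  · have := hX v 0
    simpa using this
  · have := hX 0 ⟨v, hv⟩
    simp only [Submodule.coe_zero, zero_add, map_zero] at this
    rw [this]
    exact (x' ⟨v, hv⟩).2

/-- two isometries of the same type are conjugate -/
theorem HasType.unique {B : LinearMap.BilinForm F V} (hB : Alt B) (hN : Nond B) {ξ : M ≃ₗ[F] M} {X X' : V ≃ₗ[F] V}
    (h : HasType B ξ X) (h' : HasType B ξ X') : ∃ u : V ≃ₗ[F] V, Iso B u ∧ X' = u * X * u⁻¹ := by
  obtain ⟨hX, P, Q, hP, hQ, hPQ, hXQ, φ, hφ⟩ := h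
  obtain ⟨hX', P', Q', hP', hQ', hPQ', hXQ', φ', hφ'⟩ := h'
  obtain ⟨u, hu, huP, huQ⟩ := levi_two hB hN hP hQ hPQ hP' hQ' hPQ' (φ.trans φ'.symm)
  refine ⟨u, hu, ?_⟩
  have huQi : ∀ v ∈ Q', u⁻¹ v ∈ Q := by
    have h1 : Q.map (u : V →ₗ[F] V) = Q' := by
      apply Submodule.eq_of_le_of_finrank_eq
      · rintro _ ⟨v, hv, rfl⟩
        exact huQ v hv
      · rw [LinearEquiv.finrank_map_eq, ← finrank_eq hB hN hP hQ hPQ, ← finrank_eq hB hN hP' hQ' hPQ',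
          (φ.trans φ'.symm).finrank_eq]
    intro v hv
    rw [← h1] at hv
    obtain ⟨w, hw, rfl⟩ := hv
    have : u⁻¹ ((u : V →ₗ[F] V) w) = w := inv_app u w
    rw [this]
    exact hw
  have h1 := levi_unique hB hN hP' hQ' hPQ' (D := X'⁻¹ * (u * X * u⁻¹)) (hX'.inv.mul ((hu.mul hX).mul hu.inv))
    (fun v hv => inv_mem_of_mem hXQ' _ (huQ _ (hXQ _ (huQi v hv)))) 1 (one_mul 1) (fun v hv => by
      rw [one_smul]
      have h2 : v = u ((φ.symm (φ' ⟨v, hv⟩) : P) : V) := by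
        rw [huP]
        simp
      change X'⁻¹ (u (X (u⁻¹ v))) = v
      have h3 : u (X (u⁻¹ v)) = X' v := by
        have h4 : u⁻¹ v = ((φ.symm (φ' ⟨v, hv⟩) : P) : V) := by
          nth_rewrite 1 [h2]
          rw [inv_app]
        rw [h4, hφ, tr_apply, φ.apply_symm_apply, huP]
        have h5 := hφ' ⟨v, hv⟩
        simp only at h5
        rw [h5, tr_apply]
        simp
      rw [h3, inv_app])
  ext v
  have h2 := h1 v
  rw [one_smul] at h2
  have h3 := congrArg (fun t => X' t) h2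
  simp only [LinearEquiv.mul_apply] at h3 ⊢
  rw [app_inv] at h3
  exact h3.symm

/-- **the engine** -/
theorem tt_of_corner {B : LinearMap.BilinForm F V} (hB : Alt B) (hN : Nond B) {P Q : Submodule F V}
    (hP : Orth B P P) (hQ : Orth B Q Q) (hPQ : P ⊔ Q = ⊤) {ξ : M ≃ₗ[F] M} {ζ : N ≃ₗ[F] N} {f₁ f₁' f₂ f₂' : F[X]}
    (hξ : Sing ξ f₁ f₁') (hζ : Sing ζ f₂ f₂') {A : P ≃ₗ[F] P} (hA : FacT ξ ζ A)
    {g : V ≃ₗ[F] V} (hg : Iso B g) (hc : ∀ v : P, g v - A v ∈ Q) : TT B ξ ζ g := by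
  obtain ⟨φ, ψ, hxz⟩ := hA
  obtain ⟨X, hX, hXx, hXQ⟩ := levi hB hN hP hQ hPQ (tr φ ξ)
  obtain ⟨Z, hZ, hZz, hZQ⟩ := levi hB hN hP hQ hPQ (tr ψ ζ)
  have hf₁ : Sing (tr φ ξ) f₁ f₁' := hξ.conj φ (fun v => rfl)
  have hf₂ : Sing (tr ψ ζ) f₂ f₂' := hζ.conj ψ (fun v => rfl)
  obtain ⟨a1, a2, -, -⟩ := sing_levi hB hN hQ hPQ hf₁ hX hXx hXQ
  obtain ⟨-, -, b3, b4⟩ := sing_levi hB hN hQ hPQ hf₂ hZ hZz hZQ
  have tX : HasType B ξ X := ⟨hX, P, Q, hP, hQ, hPQ, hXQ, φ, hXx⟩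
  have tZ : HasType B ζ Z := ⟨hZ, P, Q, hP, hQ, hPQ, hZQ, ψ, hZz⟩
  have hXP : ∀ v ∈ P, X v ∈ P := fun v hv => by rw [hXx ⟨v, hv⟩]; exact (tr φ ξ ⟨v, hv⟩).2
  have hZP : ∀ v ∈ P, Z v ∈ P := fun v hv => by rw [hZz ⟨v, hv⟩]; exact (tr ψ ζ ⟨v, hv⟩).2
  have hXZP : ∀ v ∈ P, (X * Z) v ∈ P := fun v hv => hXP _ (hZP v hv)
  obtain ⟨n, m, hn, hm, hnm⟩ := c1_factor hB hN hP hQ hPQ (g := g * (X * Z)⁻¹) (hg.mul (hX.mul hZ).inv) (by
    intro v hv
    have h1 := inv_mem_of_mem hXZP v hv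
    have h2 := hc ⟨_, h1⟩
    have h3 : ((A ⟨_, h1⟩ : P) : V) = v := by
      rw [hxz, ← hXx, ← hZz]
      exact app_inv (X * Z) v
    rw [h3] at h2
    exact h2)
  have hgn : g = uni n (skew_sq hn) * uni m (skew_sq hm) * (X * Z) := by
    rw [← hnm]; group
  have hm' := skew_conj hX hXP hm
  have e0 : uni m (skew_sq hm) * X = X * uni (X.symm.conj m) (skew_sq hm') := by
    ext v
    rw [LinearEquiv.mul_apply, LinearEquiv.mul_apply, uni_apply, uni_apply, map_add]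
    congr 1
    exact (X.apply_symm_apply _).symm
  obtain ⟨s, hs, hsX⟩ := sylvester hPQ hX hXQ f₁ a1 a2 hn
  have e1 : uni s (skew_sq hs) * X = uni n (skew_sq hn) * X * uni s (skew_sq hs) := by
    ext v
    simp only [LinearEquiv.mul_apply, uni_apply, map_add]
    have : n (X (s v)) = 0 := hn.2.1 _ (hXQ _ (hs.1 v))
    rw [hsX, this]
    abel
  have hQP : Q ⊔ P = ⊤ := by rw [sup_comm]; exact hPQ
  obtain ⟨t, ht, htZ⟩ := sylvester hQP hZ hZP f₂' b3 b4 hm'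
  have e2 : uni t (skew_sq ht) * Z = uni (X.symm.conj m) (skew_sq hm') * Z * uni t (skew_sq ht) := by
    ext v
    simp only [LinearEquiv.mul_apply, uni_apply, map_add]
    have : (X.symm.conj m) (Z (t v)) = 0 := hm'.2.1 _ (hZP _ (ht.1 v))
    rw [htZ, this]
    abel
  have hui : Iso B (uni s (skew_sq hs)) := skew_iso hQ hs
  have hti : Iso B (uni t (skew_sq ht)) := skew_iso hP ht
  generalize uni n (skew_sq hn) = a at *
  generalize uni m (skew_sq hm) = b at *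
  generalize uni (X.symm.conj m) (skew_sq hm') = b' at *
  generalize uni s (skew_sq hs) = u at *
  generalize uni t (skew_sq ht) = w at *
  have k1 : a * X = u * X * u⁻¹ := by rw [e1]; group
  have k2 : b' * Z = w * Z * w⁻¹ := by rw [e2]; group
  refine ⟨u * X * u⁻¹, w * Z * w⁻¹, tX.conj hui, tZ.conj hti, ?_⟩
  rw [← k1, ← k2, hgn]
  calc a * b * (X * Z) = a * (b * X) * Z := by group
    _ = a * (X * b') * Z := by rw [e0]
    _ = _ := by group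

end FD

theorem aeval_prodCongr (ξ : M ≃ₗ[F] M) (ζ : N ≃ₗ[F] N) (f : F[X]) (v : M × N) :
    aeval ((ξ.prodCongr ζ : (M × N) ≃ₗ[F] (M × N)) : Module.End F (M × N)) f v =
      (aeval (ξ : Module.End F M) f v.1, aeval (ζ : Module.End F N) f v.2) := by
  induction f using Polynomial.induction_on' generalizing v with
  | add p q hp hq => simp only [map_add, LinearMap.add_apply, hp, hq, Prod.mk_add_mk]
  | monomial k a =>
    have hk : ∀ k : ℕ, ∀ v : M × N, (((ξ.prodCongr ζ : (M × N) ≃ₗ[F] (M × N)) : Module.End F (M × N)) ^ k) v =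
        (((ξ : Module.End F M) ^ k) v.1, ((ζ : Module.End F N) ^ k) v.2) := by
      intro k
      induction k with
      | zero => intro v; simp
      | succ k ih =>
        intro v
        rw [pow_succ, Module.End.mul_apply, ih, pow_succ, pow_succ, Module.End.mul_apply, Module.End.mul_apply]
        rfl
    simp only [aeval_monomial, Module.algebraMap_end_eq_smul_id, Module.End.mul_apply, LinearMap.smul_apply,
      LinearMap.id_apply, hk, map_smul, Prod.smul_mk]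

end Cfsg.Agent.H144.TC
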