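import Cfsg.Agent.H7.TC.SpEight
import Cfsg.Agent.H930.TC.Swap
import Cfsg.Agent.H843.TC6.Conj

/-!
# S2452, row `PSp_2n(q)`, `q` odd, `4 ∣ n`: isometries of type `ξ ⊕ 1`, `ξ` of degree `n - 1`

* `exists_ext` : coordinates of `P` from coordinates of a hyperplane.
* `tt_core` : a corner `diag (1, -1_b)` with a good vector gives `g = X Z`, `X`, `Z` of type `ξ ⊕ 1`.
-/

set_option autoImplicit false
open Polynomial

noncomputable section

namespace Cfsg.Agent.H144.TC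

open Cfsg.Agent.H144 Cfsg.Agent.H144.War Cfsg.Agent.H843.TC6

section

variable {F V M : Type*} [Field F] [AddCommGroup V] [Module F V] [AddCommGroup M] [Module F M]

/-- coordinates from a hyperplane -/
theorem exists_ext [FiniteDimensional F V] (ℓ : V →ₗ[F] F) (p : V) (hp : ℓ p = 1) (e : LinearMap.ker ℓ ≃ₗ[F] M) :
    ∃ φ : V ≃ₗ[F] (M × F), (∀ x : M × F, φ.symm x = (e.symm x.1 : V) + x.2 • p) ∧ ∀ v, ℓ v = (φ v).2 := by
  let T : (M × F) →ₗ[F] V := ((LinearMap.ker ℓ).subtype ∘ₗ (e.symm : M →ₗ[F] LinearMap.ker ℓ)).coprod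
    (LinearMap.toSpanSingleton F V p)
  have hT : ∀ x : M × F, T x = (e.symm x.1 : V) + x.2 • p := fun x => rfl
  have hℓT : ∀ x : M × F, ℓ (T x) = x.2 := by
    intro x
    rw [hT, map_add, map_smul, hp, smul_eq_mul, mul_one]
    have := (e.symm x.1).2
    rw [LinearMap.mem_ker] at this
    rw [this, zero_add]
  have hinj : Function.Injective T := by
    rw [← LinearMap.ker_eq_bot, LinearMap.ker_eq_bot']
    intro x hx
    have h1 : x.2 = 0 := by rw [← hℓT, hx, map_zero]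
    have h2 := hT x
    rw [hx, h1, zero_smul, add_zero] at h2
    have h3 : e.symm x.1 = 0 := Subtype.ext h2.symm
    rw [LinearEquiv.map_eq_zero_iff] at h3
    exact Prod.ext h3 h1
  have hsurj : Function.Surjective T := by
    intro v
    have h1 : v - ℓ v • p ∈ LinearMap.ker ℓ := by
      rw [LinearMap.mem_ker, map_sub, map_smul, hp, smul_eq_mul, mul_one, sub_self]
    refine ⟨(e ⟨_, h1⟩, ℓ v), ?_⟩
    rw [hT, e.symm_apply_apply]
    change v - ℓ v • p + ℓ v • p = v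
    rw [sub_add_cancel]
  let φ' : (M × F) ≃ₗ[F] V := LinearEquiv.ofBijective T ⟨hinj, hsurj⟩
  have hφ' : ∀ x, φ' x = T x := fun x => rfl
  refine ⟨φ'.symm, fun x => ?_, fun v => ?_⟩
  · rw [LinearEquiv.symm_symm, hφ', hT]
  · obtain ⟨x, rfl⟩ := φ'.surjective v
    rw [LinearEquiv.symm_apply_apply, hφ', hℓT]

end

variable {F V K : Type} [Field F] [AddCommGroup V] [Module F V] [FiniteDimensional F V] [Field K] [Algebra F K]
  [FiniteDimensional F K]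

/-- `A = x z`, `x ≅ ξ ⊕ 1`, `z ≅ ξ⁻¹ ⊕ 1`, from a factorization on a hyperplane -/
theorem fac_ext {s : ℕ} {ξ : K} (hξ : Gx F s ξ) {ℓ : V →ₗ[F] F} {p : V} (hp : ℓ p = 1)
    {A : V ≃ₗ[F] V} (hA : ∀ v, ℓ (A v) = ℓ v) (hAp : A p = p) {A₀ : LinearMap.ker ℓ ≃ₗ[F] LinearMap.ker ℓ}
    (hA₀ : ∀ v : LinearMap.ker ℓ, A v = (A₀ v : V)) (hs : Module.finrank F (LinearMap.ker ℓ) = s)
    (hF : FF (minpoly F ξ) A₀) :
    ∃ φ ψ : V ≃ₗ[F] (K × F), φ.symm (0, 1) = p ∧ (∀ v, ℓ v = (ψ v).2) ∧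
      ∀ v, A v = tr φ (s1 (mu F ξ hξ.1)) (tr ψ (s1 (mu F ξ hξ.1)⁻¹) v) := by
  obtain ⟨h0, hK, hdeg, -, -⟩ := id hξ
  obtain ⟨x, z, hx, hz, hxz⟩ := hF
  have hd : (minpoly F ξ).natDegree = Module.finrank F K := by rw [hdeg, hK]
  obtain ⟨a, ha⟩ := exists_equiv (ξ := ξ) hd (P := LinearMap.ker ℓ) (P' := K) (by rw [hs, hK]) hx (aeval_mu ξ h0)
  obtain ⟨b, hb⟩ := exists_equiv (ξ := ξ) hd (P := LinearMap.ker ℓ) (P' := K) (by rw [hs, hK]) hz (aeval_mu ξ h0)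
  obtain ⟨φ, hφ1, hφ2⟩ := exists_ext ℓ p hp a
  obtain ⟨ψ, hψ1, hψ2⟩ := exists_ext ℓ p hp b
  refine ⟨φ, ψ, ?_, hψ2, fun v => ?_⟩
  · rw [hφ1]
    simp
  · obtain ⟨y, rfl⟩ := ψ.symm.surjective v
    have hb' : ∀ w : LinearMap.ker ℓ, b (z w) = (mu F ξ h0)⁻¹ (b w) := by
      intro w
      have h1 := hb (z w)
      have h2 : ((z⁻¹ : LinearMap.ker ℓ ≃ₗ[F] LinearMap.ker ℓ) : Module.End F (LinearMap.ker ℓ)) (z w) = w := inv_app z w
      rw [h2] at h1
      rw [h1]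
      exact (inv_app (mu F ξ h0) _).symm
    have e1 : ψ.symm (s1 (mu F ξ h0)⁻¹ y) = ((z (b.symm y.1) : LinearMap.ker ℓ) : V) + y.2 • p := by
      rw [hψ1, s1_apply]
      have h1 := hb' (b.symm y.1)
      rw [b.apply_symm_apply] at h1
      simp only
      rw [← h1, b.symm_apply_apply]
    have e2 : φ ((z (b.symm y.1) : V) + y.2 • p) = (a (z (b.symm y.1)), y.2) := by
      rw [← LinearEquiv.eq_symm_apply, hφ1]
      simp only [LinearEquiv.symm_apply_apply]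
    rw [tr_apply, tr_apply, ψ.apply_symm_apply, e1, e2, s1_apply, hφ1, hψ1, map_add, map_smul, hAp, hA₀, hxz]
    simp only
    congr 2
    have h3 := ha (z (b.symm y.1))
    have h4 : (mu F ξ h0 : K ≃ₗ[F] K) (a (z (b.symm y.1))) = a (x (z (b.symm y.1))) := h3.symm
    rw [h4, a.symm_apply_apply]

/-- **the corner** `diag (1_{a+1}, -1_b)` with a good vector -/
theorem tt_core (h2 : (2 : F) ≠ 0) {s a b : ℕ} {ξ : K} (hξ : Gx F s ξ) (e1 : (minpoly F ξ).eval 1 ≠ 0)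
    (e1' : (minpoly F ξ⁻¹).eval 1 ≠ 0) {B : LinearMap.BilinForm F V} (hB : Alt B) (hN : Nond B) {g : V ≃ₗ[F] V}
    (hg : Iso B g) (ha : 1 ≤ a) (hb : Even b) (hab : a + b = s) {U W Q : Submodule F V}
    (h1 : Orth B (U ⊔ W) (U ⊔ W)) (h3 : Orth B Q Q) (h4 : U ⊔ W ⊔ Q = ⊤) (h5 : Module.finrank F U = a + 1)
    (h6 : Module.finrank F W = b) (h7 : ∀ v ∈ U, g v - v ∈ Q) (h8 : ∀ v ∈ W, g v + v ∈ Q)
    (hV : Module.finrank F V = 2 * (s + 1)) {p q : V} (hp : p ∈ U) (hq : q ∈ Q) (hpq : B p q ≠ 0)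
    (hWq : ∀ w ∈ W, B w q = 0) (hgp : B (g p) p = 0) (hgq : B (g q) q = 0) :
    TT B (s1 (mu F ξ hξ.1)) (s1 (mu F ξ hξ.1)⁻¹) g := by
  have h9 := finrank_two hB hN h1 h3 h4
  have hle : ∀ v : ↥(U ⊔ W), v ∈ U.comap (U ⊔ W).subtype ⊔ W.comap (U ⊔ W).subtype := by
    intro v
    obtain ⟨u, hu, w, hw, huw⟩ := Submodule.mem_sup.1 v.2
    have e1 : v = (⟨u, Submodule.mem_sup_left hu⟩ : ↥(U ⊔ W)) + ⟨w, Submodule.mem_sup_right hw⟩ := Subtype.ext huw.symm
    rw [e1]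
    exact Submodule.add_mem_sup hu hw
  have hU : Module.finrank F (U.comap (U ⊔ W).subtype) = a + 1 := by
    rw [(Submodule.comapSubtypeEquivOfLe le_sup_left).finrank_eq, h5]
  have hW : Module.finrank F (W.comap (U ⊔ W).subtype) = b := by
    rw [(Submodule.comapSubtypeEquivOfLe le_sup_right).finrank_eq, h6]
  have htop : U.comap (U ⊔ W).subtype ⊔ W.comap (U ⊔ W).subtype = ⊤ := eq_top_iff.2 (fun v _ => hle v)
  have hP : Module.finrank F ↥(U ⊔ W) = a + 1 + b := by omega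
  have hc : IsCompl (U.comap (U ⊔ W).subtype) (W.comap (U ⊔ W).subtype) := isCompl_of_finrank hP hU hW htop
  let A : ↥(U ⊔ W) ≃ₗ[F] ↥(U ⊔ W) := War.ds hc 1 (LinearEquiv.neg F)
  have hA1 : ∀ v ∈ U.comap (U ⊔ W).subtype, A v = v := by
    intro v hv
    have := ds_apply hc 1 (LinearEquiv.neg F) ⟨v, hv⟩ 0
    simpa using this
  have hA2 : ∀ v ∈ W.comap (U ⊔ W).subtype, A v = -v := by
    intro v hv
    have := ds_apply hc 1 (LinearEquiv.neg F) 0 ⟨v, hv⟩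
    simpa using this
  -- normalize `p`
  obtain ⟨p', hp', hp'e⟩ : ∃ p' : V, p' ∈ U ∧ p' = (B p q)⁻¹ • p := ⟨_, U.smul_mem _ hp, rfl⟩
  have hp'q : B p' q = 1 := by
    rw [hp'e, LinearMap.map_smul₂, smul_eq_mul, inv_mul_cancel₀ hpq]
  have hgp' : B (g p') p' = 0 := by
    simp only [hp'e, map_smul, LinearMap.smul_apply, hgp, smul_zero]
  let ℓ : ↥(U ⊔ W) →ₗ[F] F := (B.flip q) ∘ₗ (U ⊔ W).subtype
  have hℓ : ∀ v : ↥(U ⊔ W), ℓ v = B v q := fun v => rfl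
  let P0 : ↥(U ⊔ W) := ⟨p', Submodule.mem_sup_left hp'⟩
  have hP0 : ℓ P0 = 1 := hp'q
  have hP0U : P0 ∈ U.comap (U ⊔ W).subtype := hp'
  have hAP0 : A P0 = P0 := hA1 _ hP0U
  have hAℓ : ∀ v, ℓ (A v) = ℓ v := by
    intro v
    obtain ⟨u, hu, w, hw, rfl⟩ := Submodule.mem_sup.1 (hle v)
    have k1 : ℓ w = 0 := hWq _ hw
    rw [map_add, hA1 u hu, hA2 w hw, map_add, map_add, map_neg, k1, neg_zero]
  have hI : Inv A (LinearMap.ker ℓ) := by
    intro v hv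
    rw [LinearMap.mem_ker] at hv ⊢
    rw [hAℓ, hv]
  have hker : Module.finrank F (LinearMap.ker ℓ) = s := by
    have k1 := LinearMap.finrank_range_add_finrank_ker ℓ
    have k2 : LinearMap.range ℓ = ⊤ := by
      rw [LinearMap.range_eq_top]
      intro c
      exact ⟨c • P0, by rw [map_smul, hP0, smul_eq_mul, mul_one]⟩
    rw [k2, finrank_top, Module.finrank_self] at k1
    omega
  have hWk : W.comap (U ⊔ W).subtype ≤ LinearMap.ker ℓ := by
    intro w hw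
    rw [LinearMap.mem_ker]
    exact hWq _ hw
  have hW0 : Module.finrank F ((W.comap (U ⊔ W).subtype).comap (LinearMap.ker ℓ).subtype) = b := by
    rw [(Submodule.comapSubtypeEquivOfLe hWk).finrank_eq, hW]
  have hU0 : Module.finrank F ((U.comap (U ⊔ W).subtype).comap (LinearMap.ker ℓ).subtype) = a := by
    have k0 : Module.finrank F ((U.comap (U ⊔ W).subtype).comap (LinearMap.ker ℓ).subtype) =
        Module.finrank F (U.comap (U ⊔ W).subtype ⊓ LinearMap.ker ℓ : Submodule F ↥(U ⊔ W)) := by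
      rw [← Submodule.finrank_map_subtype_eq (LinearMap.ker ℓ), Submodule.map_comap_subtype, inf_comm]
    rw [k0]
    have k1 := Submodule.finrank_sup_add_finrank_inf_eq (U.comap (U ⊔ W).subtype) (LinearMap.ker ℓ)
    have k2 : U.comap (U ⊔ W).subtype ⊔ LinearMap.ker ℓ = ⊤ := by
      rw [eq_top_iff, ← htop]
      exact sup_le le_sup_left (hWk.trans le_sup_right)
    rw [k2, finrank_top, hU, hker, hP] at k1
    omega
  have htop0 : (U.comap (U ⊔ W).subtype).comap (LinearMap.ker ℓ).subtype ⊔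
      (W.comap (U ⊔ W).subtype).comap (LinearMap.ker ℓ).subtype = ⊤ := by
    rw [eq_top_iff]
    intro v _
    obtain ⟨u, hu, w, hw, huw⟩ := Submodule.mem_sup.1 (hle v)
    have hw' := hWk hw
    have hu' : u ∈ LinearMap.ker ℓ := by
      have : u = (v : ↥(U ⊔ W)) - w := by rw [← huw, add_sub_cancel_right]
      rw [this]
      exact Submodule.sub_mem _ v.2 hw'
    have e1 : v = (⟨u, hu'⟩ : LinearMap.ker ℓ) + ⟨w, hw'⟩ := Subtype.ext huw.symm
    rw [e1]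
    exact Submodule.add_mem_sup hu hw
  have hFF : FF (minpoly F ξ) (gr A (LinearMap.ker ℓ) hI) :=
    ff_mix h2 hξ ha hb hab hker hU0 hW0 htop0 (fun v hv => Subtype.ext (hA1 _ hv)) (fun v hv => Subtype.ext (hA2 _ hv))
  obtain ⟨φ, ψ, hφ, hψ, hφψ⟩ := fac_ext hξ hP0 hAℓ hAP0 (A₀ := gr A (LinearMap.ker ℓ) hI) (fun v => rfl) hker hFF
  obtain ⟨hξ0, hfr, hdeg, c1, c2⟩ := id hξ
  have hSing := sing_of_aeval hξ0 (hdeg.trans hfr.symm) c1 c2 (aeval_mu ξ hξ0)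
  refine tt_of_corner2 hB hN h1 h3 h4 hSing (sing_inv hSing) e1 e1' e1' e1 φ ψ hq (fun v => hψ v) (A := A) hφψ hg
    (fun v => ?_) (fun v hv => ?_) (fun q' hq' h => ?_)
  · obtain ⟨u, hu, w, hw, rfl⟩ := Submodule.mem_sup.1 (hle v)
    rw [map_add, hA1 u hu, hA2 w hw]
    have e1 : g ((u + w : ↥(U ⊔ W)) : V) - ((u + -w : ↥(U ⊔ W)) : V) = (g u - u) + (g w + w) := by
      push_cast
      rw [map_add]
      abel
    rw [e1]
    exact Q.add_mem (h7 u hu) (h8 w hw)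
  · rw [hφ] at hv ⊢
    have hv' : v = P0 := A.injective (by rw [hv, hAP0])
    rw [hv']
    exact hgp'
  · have : q' = q := by
      rw [← sub_eq_zero]
      apply eq_zero_of_orth hN h4
      · intro w hw
        apply hB.zero
        rw [map_sub, sub_eq_zero]
        obtain ⟨v, hv⟩ := A.surjective ⟨w, hw⟩
        have k1 := h v
        rw [hv] at k1
        have k2 := hAℓ v
        rw [hv, hℓ, hℓ] at k2
        exact k1.trans k2.symm
      · intro w hw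
        exact h3 _ (Q.sub_mem hq' hq) _ hw
    rw [this]
    exact hgq

end Cfsg.Agent.H144.TC
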